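import Cfsg.Agent.Invol.IsolatedApps
import Cfsg.Agent.FGSA.Nilpotent
import Cfsg.Agent.Solvable.PGroupBasic
import Mathlib

/-!
# Split rank one actions: pairwise intersections of the Sylow two-subgroups

Toward the fact that in a simple doubly transitive group of odd degree, a nilpotent normal subgroup
of the point stabiliser that is transitive on the other points, with an odd complement fixing a
second point, is regular on the other points.
-/

set_option autoImplicit false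
set_option linter.unusedSectionVars false
set_option linter.style.haveILetI false

namespace CfsgLib.Recog.RankOneSuzuki.Sat

open scoped Pointwise

/-- An element of two-power order. -/
def Two {G : Type*} [Monoid G] (g : G) : Prop := ∃ k : ℕ, g ^ 2 ^ k = 1

theorem two_conj {G : Type*} [Group G] (h : G) {g : G} (hg : Two g) : Two (h * g * h⁻¹) := by
  obtain ⟨k, hk⟩ := hg
  exact ⟨k, by rw [conj_pow, hk, mul_one, mul_inv_cancel]⟩

theorem two_of_mul_self {G : Type*} [Group G] {g : G} (hg : g * g = 1) : Two g :=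
  ⟨1, by rw [pow_one, pow_two, hg]⟩

/-- The configuration: everything but the regularity. -/
structure Cfg (G Ω : Type*) [Group G] [MulAction G Ω] where
  a : Ω
  b : Ω
  hne : a ≠ b
  two : ∀ {x y : Ω}, x ≠ y → ∃ g : G, g • a = x ∧ g • b = y
  P : Subgroup G
  pP : IsPGroup 2 P
  P_fix : ∀ g ∈ P, g • a = a
  P_mem : ∀ g : G, g • a = a → Two g → g ∈ P
  U : Subgroup G
  U_fix : ∀ g ∈ U, g • a = a
  U_normal : ∀ g : G, g • a = a → ∀ u ∈ U, g * u * g⁻¹ ∈ U
  U_nil : Group.IsNilpotent U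
  P_le : P ≤ U
  U_trans : ∀ x : Ω, x ≠ a → ∃ u ∈ U, u • b = x
  H₀ : Subgroup G
  H_fix : ∀ g ∈ H₀, g • a = a ∧ g • b = b
  H_odd : Odd (Nat.card H₀)
  decomp : ∀ g : G, g • a = a → ∃ u ∈ U, ∃ h ∈ H₀, g = u * h
  n_odd : Odd (Nat.card Ω)
  hT : ∃ g ∈ P, g ≠ 1 ∧ g • b = b

variable {G Ω : Type*} [Group G] [MulAction G Ω]

/-- The two-elements fixing two points. -/
def TS (x y : Ω) : Set G := {g | Two g ∧ g • x = x ∧ g • y = y}

theorem mem_TS {x y : Ω} {g : G} : g ∈ TS x y ↔ Two g ∧ g • x = x ∧ g • y = y := Iff.rfl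

theorem TS_comm (x y : Ω) : TS (G := G) x y = TS y x := by
  ext g; simp only [mem_TS]; tauto

theorem conj_mem_TS {x y : Ω} {g : G} (h : G) (hg : g ∈ TS x y) : h * g * h⁻¹ ∈ TS (h • x) (h • y) :=
  ⟨two_conj h hg.1, by rw [mul_smul, mul_smul, inv_smul_smul, hg.2.1],
    by rw [mul_smul, mul_smul, inv_smul_smul, hg.2.2]⟩

theorem TS_smul (h : G) (x y : Ω) : TS (G := G) (h • x) (h • y) = (fun g => h * g * h⁻¹) '' TS x y := by
  refine Set.Subset.antisymm (fun g hg => ⟨h⁻¹ * g * h, ?_, by group⟩) ?_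
  · have := conj_mem_TS h⁻¹ hg
    simpa using this
  · rintro _ ⟨g, hg, rfl⟩
    exact conj_mem_TS h hg

/-- The points fixed by every two-element fixing two given points. -/
def line (G : Type*) {Ω : Type*} [Group G] [MulAction G Ω] (x y : Ω) : Set Ω :=
  {w | ∀ g ∈ TS (G := G) x y, g • w = w}

theorem left_mem_line (x y : Ω) : x ∈ line G x y := fun _ hg => hg.2.1

theorem right_mem_line (x y : Ω) : y ∈ line G x y := fun _ hg => hg.2.2

theorem line_comm (x y : Ω) : line G x y = line G y x := by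
  unfold line; rw [TS_comm]

theorem smul_mem_line (h : G) {x y w : Ω} : h • w ∈ line G (h • x) (h • y) ↔ w ∈ line G x y := by
  simp only [line, TS_smul, Set.mem_ofPred_eq, Set.forall_mem_image, mul_smul, inv_smul_smul,
    smul_left_cancel_iff]

theorem line_smul (h : G) (x y : Ω) : line G (h • x) (h • y) = (fun w => h • w) '' line G x y := by
  ext w
  refine ⟨fun hw => ⟨h⁻¹ • w, ?_, smul_inv_smul h w⟩, ?_⟩
  · rw [← smul_mem_line h, smul_inv_smul]; exact hw
  · rintro ⟨v, hv, rfl⟩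
    exact (smul_mem_line h).2 hv

namespace Cfg

variable (S : Cfg G Ω)
include S

/-- The base intersection. -/
def T : Subgroup G := S.P ⊓ MulAction.stabilizer G S.b

theorem mem_T {g : G} : g ∈ S.T ↔ g ∈ TS S.a S.b := by
  constructor
  · intro hg
    obtain ⟨k, hk⟩ := S.pP ⟨g, hg.1⟩
    exact ⟨⟨k, congrArg Subtype.val hk⟩, S.P_fix g hg.1, hg.2⟩
  · exact fun hg => ⟨S.P_mem g hg.2.1 hg.1, hg.2.2⟩

theorem two_of_mem {g : G} (hg : g ∈ S.P) : Two g := by
  obtain ⟨k, hk⟩ := S.pP ⟨g, hg⟩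
  exact ⟨k, congrArg Subtype.val hk⟩

theorem P_conj {g : G} (hg : g • S.a = S.a) {x : G} (hx : x ∈ S.P) : g * x * g⁻¹ ∈ S.P :=
  S.P_mem _ (by rw [mul_smul, mul_smul, inv_smul_eq_iff.2 hg.symm, S.P_fix x hx, hg])
    (two_conj g (S.two_of_mem hx))

theorem exists_other (x : Ω) : ∃ y : Ω, y ≠ x := by
  rcases eq_or_ne S.a x with rfl | h
  · exact ⟨S.b, S.hne.symm⟩
  · exact ⟨S.a, h⟩

theorem exists_smul (x : Ω) : ∃ g : G, g • S.a = x := by
  obtain ⟨y, hy⟩ := S.exists_other x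
  exact (S.two hy.symm).imp fun _ h => h.1

variable [Finite G]

theorem ncard_TS {x y : Ω} (h : x ≠ y) : (TS (G := G) x y).ncard = (TS (G := G) S.a S.b).ncard := by
  obtain ⟨g, rfl, rfl⟩ := S.two h
  rw [TS_smul, Set.ncard_image_of_injective _ fun u v e => mul_left_cancel (mul_right_cancel e)]

/-- Any two points of a line determine it. -/
theorem TS_eq {x y c d : Ω} (hxy : x ≠ y) (hc : c ∈ line G x y) (hd : d ∈ line G x y) (hcd : c ≠ d) :
    TS (G := G) c d = TS x y :=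
  (Set.eq_of_subset_of_ncard_le (s := TS x y) (t := TS c d) (fun g hg => ⟨hg.1, hc g hg, hd g hg⟩)
    (by rw [S.ncard_TS hcd, S.ncard_TS hxy]) (Set.toFinite _)).symm

theorem line_eq {x y c d : Ω} (hxy : x ≠ y) (hc : c ∈ line G x y) (hd : d ∈ line G x y) (hcd : c ≠ d) :
    line G c d = line G x y := by
  unfold line; rw [S.TS_eq hxy hc hd hcd]

theorem line_eq_base {c : Ω} (hc : c ∈ line G S.a S.b) (h : c ≠ S.a) :
    line G S.a c = line G S.a S.b :=
  S.line_eq S.hne (left_mem_line _ _) hc h.symm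

theorem smul_line_eq {h : G} {c d : Ω} (hc : c ∈ line G S.a S.b) (hd : d ∈ line G S.a S.b) (hcd : c ≠ d)
    (hc' : h • c ∈ line G S.a S.b) (hd' : h • d ∈ line G S.a S.b) (w : Ω) (hw : w ∈ line G S.a S.b) :
    h • w ∈ line G S.a S.b := by
  rw [← S.line_eq S.hne hc' hd' (fun e => hcd (smul_left_cancel h e)), smul_mem_line,
    S.line_eq S.hne hc hd hcd]
  exact hw

theorem normalizer_iff {g : G} :
    g ∈ Subgroup.normalizer (S.T : Set G) ↔ TS (G := G) (g • S.a) (g • S.b) = TS S.a S.b := by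
  rw [Subgroup.mem_normalizer_iff, TS_smul, Set.ext_iff]
  constructor
  · intro h x
    refine ⟨?_, fun hx => ⟨g⁻¹ * x * g, S.mem_T.1 ((h _).2 ?_), by group⟩⟩
    · rintro ⟨y, hy, rfl⟩
      exact S.mem_T.1 ((h y).1 (S.mem_T.2 hy))
    · rw [show g * (g⁻¹ * x * g) * g⁻¹ = x by group]
      exact S.mem_T.2 hx
  · intro h x
    rw [S.mem_T, S.mem_T, ← h (g * x * g⁻¹)]
    refine ⟨fun hx => ⟨x, hx, rfl⟩, ?_⟩
    rintro ⟨y, hy, e⟩
    rwa [← mul_left_cancel (mul_right_cancel e)]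

theorem normalizer_of_mem {g : G} (hga : g • S.a ∈ line G S.a S.b) (hgb : g • S.b ∈ line G S.a S.b) :
    g ∈ Subgroup.normalizer (S.T : Set G) :=
  S.normalizer_iff.2 (S.TS_eq S.hne hga hgb fun e => S.hne (smul_left_cancel g e))

theorem normalizer_smul {g : G} (hg : g ∈ Subgroup.normalizer (S.T : Set G)) {w : Ω} :
    g • w ∈ line G S.a S.b ↔ w ∈ line G S.a S.b := by
  conv_lhs => rw [show line G S.a S.b = line G (g • S.a) (g • S.b) by
    unfold line; rw [S.normalizer_iff.1 hg]]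
  exact smul_mem_line g

/-! ### Two-parts of elements of `U` -/

theorem exists_split {u : G} (hu : u ∈ S.U) :
    ∃ p q : G, p ∈ S.P ∧ q ∈ S.U ∧ Odd (orderOf q) ∧ u = p * q := by
  obtain ⟨k, m, hm, hkm⟩ := Nat.exists_eq_two_pow_mul_odd (orderOf_pos u).ne'
  obtain ⟨α, h1, h2⟩ := Nat.chineseRemainder ((Nat.coprime_two_left.2 hm).pow_left k) 1 0
  obtain ⟨β, h3, h4⟩ := Nat.chineseRemainder ((Nat.coprime_two_left.2 hm).pow_left k) 0 1
  refine ⟨u ^ α, u ^ β, S.P_mem _ (S.U_fix _ (pow_mem hu _)) ⟨k, ?_⟩, pow_mem hu _, hm.of_dvd_nat ?_, ?_⟩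
  · rw [← pow_mul, ← orderOf_dvd_iff_pow_eq_one, hkm, mul_comm (2 ^ k)]
    exact Nat.mul_dvd_mul_right (Nat.modEq_zero_iff_dvd.1 h2) _
  · refine orderOf_dvd_of_pow_eq_one ?_
    rw [← pow_mul, ← orderOf_dvd_iff_pow_eq_one, hkm]
    exact Nat.mul_dvd_mul_right (Nat.modEq_zero_iff_dvd.1 h3) _
  · have he : α + β ≡ 1 [MOD orderOf u] := by
      rw [hkm, ← (Nat.modEq_and_modEq_iff_modEq_mul ((Nat.coprime_two_left.2 hm).pow_left k))]
      exact ⟨by simpa using h1.add h3, by simpa using h2.add h4⟩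
    rw [← pow_add, pow_eq_pow_iff_modEq.2 he, pow_one]

theorem commute_P_odd {p q : G} (hp : p ∈ S.P) (hq : q ∈ S.U) (hodd : Odd (orderOf q)) : Commute p q := by
  haveI := S.U_nil
  obtain ⟨k, hk⟩ := S.two_of_mem hp
  have h := CfsgLib.FGSA.commute_of_coprime_orderOf (⟨p, S.P_le hp⟩ : S.U) ⟨q, hq⟩ ?_
  · exact congrArg Subtype.val h.eq
  · rw [Subgroup.orderOf_mk, Subgroup.orderOf_mk]
    exact ((Nat.coprime_two_left.2 hodd).pow_left k).coprime_dvd_left (orderOf_dvd_of_pow_eq_one hk)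

/-- A central element of `P` centralises `U`. -/
theorem central_U {z : G} (hz : z ∈ S.P) (hzc : ∀ p ∈ S.P, Commute z p) {u : G} (hu : u ∈ S.U) :
    Commute z u := by
  obtain ⟨p, q, hp, hq, hodd, rfl⟩ := S.exists_split hu
  exact (hzc p hp).mul_right (S.commute_P_odd hz hq hodd)

/-- A nontrivial central element of `P` fixes one point. -/
theorem semireg [FaithfulSMul G Ω] {z : G} (hz : z ∈ S.P) (hzc : ∀ p ∈ S.P, Commute z p) (hz1 : z ≠ 1)
    {x : Ω} (hx : z • x = x) : x = S.a := by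
  by_contra hxa
  refine hz1 (FaithfulSMul.eq_of_smul_eq_smul fun y : Ω => ?_)
  rw [one_smul]
  rcases eq_or_ne y S.a with rfl | hy
  · exact S.P_fix z hz
  · obtain ⟨u, hu, rfl⟩ := S.U_trans x hxa
    obtain ⟨v, hv, rfl⟩ := S.U_trans y hy
    have hb : z • S.b = S.b := by
      rw [← mul_smul, (S.central_U hz hzc hu).eq, mul_smul] at hx
      exact smul_left_cancel u hx
    rw [← mul_smul, (S.central_U hz hzc hv).eq, mul_smul, hb]

theorem T_ne_bot : ∃ g ∈ S.T, g ≠ 1 := by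
  obtain ⟨g, hg, hg1, hgb⟩ := S.hT
  exact ⟨g, ⟨hg, hgb⟩, hg1⟩

theorem exists_central : ∃ z ∈ S.P, (∀ p ∈ S.P, Commute z p) ∧ z * z = 1 ∧ z ≠ 1 := by
  haveI : Fact (Nat.Prime 2) := ⟨Nat.prime_two⟩
  obtain ⟨g, hg, hg1, -⟩ := S.hT
  haveI : Nontrivial S.P := ⟨⟨g, hg⟩, 1, fun e => hg1 (congrArg Subtype.val e)⟩
  haveI := S.pP.center_nontrivial
  obtain ⟨k, hk, hk'⟩ := ((S.pP.to_subgroup (Subgroup.center S.P)).nontrivial_iff_card).1 inferInstance
  obtain ⟨z, hz⟩ := exists_prime_orderOf_dvd_card' (G := Subgroup.center S.P) 2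
    (hk' ▸ dvd_pow_self 2 hk.ne')
  have h2 := pow_orderOf_eq_one z
  rw [hz, pow_two] at h2
  refine ⟨((z : S.P) : G), (z : S.P).2,
    fun p hp => (congrArg Subtype.val (Subgroup.mem_center_iff.1 z.2 ⟨p, hp⟩)).symm,
    congrArg (fun w : Subgroup.center S.P => ((w : S.P) : G)) h2, fun e => ?_⟩
  have : z = 1 := Subtype.ext (Subtype.ext e)
  simp [this] at hz

theorem exists_moved : ∃ g : G, g • S.a ≠ S.a := by
  obtain ⟨g, hg, -⟩ := S.two S.hne.symm
  exact ⟨g, by rw [hg]; exact S.hne.symm⟩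

/-- The centre of `P` contains two involutions. -/
theorem exists_central_two [FaithfulSMul G Ω] [IsSimpleGroup G] :
    ∃ z ∈ S.P, ∃ w ∈ S.P, (∀ p ∈ S.P, Commute z p) ∧ (∀ p ∈ S.P, Commute w p) ∧
      z * z = 1 ∧ w * w = 1 ∧ z ≠ 1 ∧ w ≠ 1 ∧ z ≠ w := by
  obtain ⟨z, hz, hzc, hz2, hz1⟩ := S.exists_central
  by_contra hcon
  push Not at hcon
  have hiso : Cfsg.IsIsolatedInvolution z := by
    refine ⟨orderOf_eq_prime (by rw [pow_two, hz2]) hz1, fun g hg => ?_⟩
    have hfix : g • S.a = S.a := by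
      have h1 : (g * z * g⁻¹) • z • S.a = z • (g * z * g⁻¹) • S.a := by rw [← mul_smul, ← mul_smul, hg.eq]
      rw [S.P_fix z hz] at h1
      have h2 := S.semireg hz hzc hz1 h1.symm
      have h3 := S.semireg hz hzc hz1 (x := g⁻¹ • S.a) (by
        simpa [mul_smul] using congrArg (fun x => g⁻¹ • x) h2)
      exact eq_inv_smul_iff.1 h3.symm
    by_contra hne
    refine hne (hcon z hz _ (S.P_conj hfix hz) hzc (fun p hp => ?_) hz2 ?_ hz1 ?_).symm
    · have h := hzc _ (S.P_conj (inv_smul_eq_iff.2 hfix.symm) hp)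
      rw [inv_inv] at h
      calc g * z * g⁻¹ * p = g * (z * (g⁻¹ * p * g)) * g⁻¹ := by group
        _ = g * (g⁻¹ * p * g * z) * g⁻¹ := by rw [h.eq]
        _ = p * (g * z * g⁻¹) := by group
    · rw [show g * z * g⁻¹ * (g * z * g⁻¹) = g * (z * z) * g⁻¹ by group, hz2]; group
    · exact fun e => hz1 (conj_eq_one_iff.1 e)
  have hO : Cfsg.oddCore G = ⊥ := by
    refine ((inferInstance : (Cfsg.oddCore G).Normal)).eq_bot_or_eq_top.resolve_right fun e => ?_
    have h : Odd (Nat.card G) := by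
      have := CfsgLib.LocalB.odd_card_oddCore (H := G)
      rwa [e, Nat.card_congr Subgroup.topEquiv.toEquiv] at this
    have : orderOf z = 2 := hiso.1
    exact Nat.not_even_iff_odd.2 (h.of_dvd_nat (orderOf_dvd_natCard z)) (this ▸ even_two)
  obtain ⟨g, hg⟩ := S.exists_moved
  obtain ⟨o, ho, c, hc, rfl⟩ := CfsgLib.IsoApps.exists_mul hiso g
  rw [hO, Subgroup.mem_bot] at ho
  rw [ho, one_mul] at hg
  have hcz : z * c = c * z := (Subgroup.mem_centralizer_singleton_iff.1 hc).symm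
  refine hg (S.semireg hz hzc hz1 ?_)
  rw [← mul_smul, hcz, mul_smul, S.P_fix z hz]

end Cfg

end CfsgLib.Recog.RankOneSuzuki.Sat
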