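import Cfsg.Agent.Recog.RankOneSuzuki.Sat.Data

/-!
# Split rank one actions: transitivity on the elementary group and the second centre
-/

set_option autoImplicit false
set_option linter.unusedSectionVars false
set_option linter.style.haveILetI false

namespace CfsgLib.Recog.RankOneSuzuki.Sat

open Subgroup

variable {G Ω : Type*} [Group G] [MulAction G Ω] {S : Cfg G Ω}

/-- A commutator. -/
def dl (τ v : G) : G := τ * v * τ⁻¹ * v⁻¹

theorem dl_conj (g : G) {τ : G} (h : Commute g τ) (v : G) : dl τ (g * v * g⁻¹) = g * dl τ v * g⁻¹ := by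
  have e : g⁻¹ * τ * g = τ := by rw [mul_assoc, ← h.eq, inv_mul_cancel_left]
  have e' : g⁻¹ * τ⁻¹ * g = τ⁻¹ := by
    calc g⁻¹ * τ⁻¹ * g = (g⁻¹ * τ * g)⁻¹ := by group
      _ = τ⁻¹ := by rw [e]
  calc dl τ (g * v * g⁻¹) = g * ((g⁻¹ * τ * g) * v * (g⁻¹ * τ⁻¹ * g) * v⁻¹) * g⁻¹ := by
        simp only [dl]; group
    _ = g * dl τ v * g⁻¹ := by rw [e, e']; rfl

theorem dl_eq_one {τ v : G} : dl τ v = 1 ↔ Commute τ v := by
  rw [dl, mul_inv_eq_one, mul_inv_eq_iff_eq_mul]; exact Iff.rfl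

namespace Data

variable [Finite G] [FaithfulSMul G Ω] [IsSimpleGroup G] (D : Data S)
include D

theorem F_comm {c e : G} (hc : c ∈ D.F) (he : e ∈ D.F) : Commute c e := by
  have h := D.F_sq _ (mul_mem hc he)
  calc c * e = c * (c * e * (c * e)) * e := by rw [h, mul_one]
    _ = (c * c) * (e * c) * (e * e) := by group
    _ = e * c := by rw [D.F_sq c hc, D.F_sq e he, one_mul, mul_one]

theorem F_fix {c : G} (hc : c ∈ D.F) (hc1 : c ≠ 1) {x : Ω} (hx : c • x = x) : x = S.a :=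
  by_contra fun h => hc1 (D.F_free c hc x h hx)

theorem exists_F_smul {x : Ω} (hx : x ∈ S.L) (hxa : x ≠ S.a) : ∃ c ∈ D.F, c • S.b = x := by
  obtain ⟨u, hu, hn, rfl⟩ := S.line_trans hx hxa
  obtain ⟨c, hc, τ, hτ, rfl⟩ := D.decomp u hu hn
  exact ⟨c, hc, by rw [mul_smul, S.fix_L hτ S.b_mem]⟩

theorem exists_conj_other {c d : G} (hc : c ∈ D.F) (hc1 : c ≠ 1) (hd : d * d = 1)
    (hdn : d ∈ normalizer (S.T : Set G)) (hdT : ∀ τ ∈ S.T, Commute d τ)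
    (hdfix : ∀ x ∈ S.L, d • x = x → x = S.b) :
    ∃ g : G, (∀ τ ∈ S.T, Commute g τ) ∧ g ∈ normalizer (S.T : Set G) ∧
      ∀ x ∈ S.L, g • c • x = d • g • x := by
  classical
  haveI := S.finite_pts
  have hc2 := D.F_sq c hc
  set g0 := c * d with hg0
  have hg0n : g0 ∈ normalizer (S.T : Set G) := mul_mem (D.F_norm hc) hdn
  have hg0T : ∀ τ ∈ S.T, Commute g0 τ := fun τ hτ => (D.F_T c hc τ hτ).mul_left (hdT τ hτ)
  have hci : c⁻¹ = c := inv_eq_of_mul_eq_one_right hc2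
  have hdi : d⁻¹ = d := inv_eq_of_mul_eq_one_right hd
  have hsc : ∀ N : ℕ, c * g0 ^ N = (g0 ^ N)⁻¹ * c := fun N => by
    have h : SemiconjBy c g0 g0⁻¹ := by
      show c * (c * d) = (c * d)⁻¹ * c
      rw [mul_inv_rev, hdi, hci, ← mul_assoc, hc2, mul_assoc, hc2, one_mul, mul_one]
    rw [← inv_pow]; exact h.pow_right N
  have hsd : ∀ N : ℕ, d * g0 ^ N = (g0 ^ N)⁻¹ * d := fun N => by
    have h : SemiconjBy d g0 g0⁻¹ := by
      show d * (c * d) = (c * d)⁻¹ * d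
      rw [mul_inv_rev, hdi, hci, mul_assoc]
    rw [← inv_pow]; exact h.pow_right N
  obtain ⟨k, m, hm, hkm⟩ := Nat.exists_eq_two_pow_mul_odd (orderOf_pos g0).ne'
  let Fixes : ℕ → Prop := fun i => ∀ x ∈ S.L, g0 ^ (m * 2 ^ i) • x = x
  have hk : Fixes k := fun x _ => by rw [mul_comm, ← hkm, pow_orderOf_eq_one, one_smul]
  have hstep : ∀ i, i < k → Fixes (i + 1) → Fixes i := by
    intro i hi hfix
    have hmem : g0 ^ (m * 2 ^ i) ∈ normalizer (S.T : Set G) := pow_mem hg0n _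
    have hinv : ∀ x ∈ S.L, (g0 ^ (m * 2 ^ i))⁻¹ • x = g0 ^ (m * 2 ^ i) • x := fun x hx => by
      rw [inv_smul_eq_iff, ← mul_smul, ← pow_add, ← two_mul, mul_left_comm, ← pow_succ']
      exact (hfix x hx).symm
    have ha : g0 ^ (m * 2 ^ i) • S.a = S.a := by
      refine D.F_fix hc hc1 ?_
      rw [← mul_smul, hsc, mul_smul, S.P_fix c (D.F_le hc), hinv _ S.a_mem]
    have hb : g0 ^ (m * 2 ^ i) • S.b = S.b := by
      refine hdfix _ ((S.normalizer_smul hmem).2 S.b_mem) ?_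
      have hdb : d • S.b = S.b := by
        obtain ⟨x, hx⟩ := exists_fixed (fun w : S.L => ⟨d • (w : Ω), (S.normalizer_smul hdn).2 w.2⟩)
          (fun w => Subtype.ext (by simp [← mul_smul, hd])) S.odd_line
        have hx' : d • (x : Ω) = x := congrArg Subtype.val hx
        rwa [hdfix x x.2 hx'] at hx'
      rw [← mul_smul, hsd, mul_smul, hdb, hinv _ S.b_mem]
    intro x hx
    refine S.fix_L (S.mem_T.2 ⟨⟨k - i, ?_⟩, ha, hb⟩) hx
    rw [← pow_mul, mul_assoc, ← pow_add, Nat.add_sub_cancel' hi.le, mul_comm, ← hkm, pow_orderOf_eq_one]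
  have h0 : Fixes 0 := Nat.decreasingInduction (fun i hi h => hstep i hi h) hk (Nat.zero_le k)
  obtain ⟨l, rfl⟩ := hm
  refine ⟨g0 ^ l, fun τ hτ => (hg0T τ hτ).pow_left l, pow_mem hg0n _, fun x hx => ?_⟩
  have hcd : d = c * g0 := by rw [hg0, ← mul_assoc, hc2, one_mul]
  have hy : c • x ∈ S.L := (S.normalizer_smul (D.F_norm hc)).2 hx
  rw [← mul_smul, ← mul_smul]
  conv_rhs => rw [hcd, mul_assoc, ← pow_succ', hsc, mul_smul]
  rw [mul_smul, eq_inv_smul_iff, ← mul_smul, ← pow_add]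
  have := h0 _ hy
  rwa [pow_zero, mul_one, show 2 * l + 1 = l + 1 + l by omega] at this

/-- The centraliser of `T` in a two point stabiliser is transitive on the nontrivial elements. -/
theorem conj_trans {c c' : G} (hc : c ∈ D.F) (hc1 : c ≠ 1) (hc' : c' ∈ D.F) (hc1' : c' ≠ 1) :
    ∃ g : G, g • S.a = S.a ∧ g • S.b = S.b ∧ (∀ τ ∈ S.T, Commute g τ) ∧ g * c * g⁻¹ = c' := by
  obtain ⟨s, hsa, hsb, hsc⟩ := S.exists_swap
  set d := s * c * s⁻¹ with hd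
  have hsn : s ∈ normalizer (S.T : Set G) := S.normalizer_of_mem
    (show s • S.a ∈ S.L by rw [hsa]; exact S.b_mem) (show s • S.b ∈ S.L by rw [hsb]; exact S.a_mem)
  have hd2 : d * d = 1 := by
    rw [hd, show s * c * s⁻¹ * (s * c * s⁻¹) = s * (c * c) * s⁻¹ by group, D.F_sq c hc]; group
  have hdn : d ∈ normalizer (S.T : Set G) := mul_mem (mul_mem hsn (D.F_norm hc)) (inv_mem hsn)
  have hdT : ∀ τ ∈ S.T, Commute d τ := fun τ hτ =>
    ((hsc τ hτ).mul_left (D.F_T c hc τ hτ)).mul_left (hsc τ hτ).inv_left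
  have hdfix : ∀ x ∈ S.L, d • x = x → x = S.b := fun x _ hx => by
    rw [hd, mul_smul, mul_smul] at hx
    have := D.F_fix hc hc1 (smul_left_cancel s (hx.trans (smul_inv_smul s x).symm))
    rw [inv_smul_eq_iff] at this
    rw [this, hsa]
  obtain ⟨g1, hg1T, hg1n, hg1⟩ := D.exists_conj_other hc hc1 hd2 hdn hdT hdfix
  obtain ⟨g2, hg2T, hg2n, hg2⟩ := D.exists_conj_other hc' hc1' hd2 hdn hdT hdfix
  set g := g2⁻¹ * g1 with hg
  have hgT : ∀ τ ∈ S.T, Commute g τ := fun τ hτ => (hg2T τ hτ).inv_left.mul_left (hg1T τ hτ)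
  have hgn : g ∈ normalizer (S.T : Set G) := mul_mem (inv_mem hg2n) hg1n
  have hgc : ∀ x ∈ S.L, g • c • x = c' • g • x := fun x hx => by
    have hy : g • x ∈ S.L := (S.normalizer_smul hgn).2 hx
    rw [hg, mul_smul, mul_smul, hg1 x hx, inv_smul_eq_iff, hg2 _ (by simpa [hg, mul_smul] using hy),
      smul_inv_smul]
  have hga : g • S.a = S.a := by
    refine D.F_fix hc' hc1' ?_
    rw [← hgc _ S.a_mem, S.P_fix c (D.F_le hc)]
  have hgb : g • S.b ≠ S.a := fun e => S.hne (smul_left_cancel g (hga.trans e.symm))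
  obtain ⟨e, he, heb⟩ := D.exists_F_smul ((S.normalizer_smul hgn).2 S.b_mem) hgb
  have hgg : g * c * g⁻¹ = c' := by
    have h1 : c'⁻¹ * (g * c * g⁻¹) ∈ D.F := mul_mem (inv_mem hc') (D.F_conj hga c hc)
    refine (inv_mul_eq_one.1 (D.F_free _ h1 S.b S.hne.symm ?_)).symm
    rw [mul_smul, mul_smul, mul_smul, hgc _ ((S.normalizer_smul (inv_mem hgn)).2 S.b_mem), smul_inv_smul,
      inv_smul_smul]
  refine ⟨e⁻¹ * g, by rw [mul_smul, hga, S.P_fix _ (inv_mem (D.F_le he))],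
    by rw [mul_smul, inv_smul_eq_iff, heb], fun τ hτ => (D.F_T e he τ hτ).inv_left.mul_left (hgT τ hτ), ?_⟩
  calc e⁻¹ * g * c * (e⁻¹ * g)⁻¹ = e⁻¹ * (g * c * g⁻¹) * e := by group
    _ = e⁻¹ * c' * e := by rw [hgg]
    _ = c' := by rw [mul_assoc, (D.F_comm hc' he).eq, inv_mul_cancel_left]

/-- `F` is central in `P`. -/
theorem F_central {c : G} (hc : c ∈ D.F) {u : G} (hu : u ∈ S.P) : Commute c u := by
  haveI : Fact (Nat.Prime 2) := ⟨Nat.prime_two⟩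
  haveI := S.pP.isNilpotent
  rcases eq_or_ne c 1 with rfl | hc1
  · exact Commute.one_left u
  haveI : (D.F.subgroupOf S.P).Normal := ⟨fun e he p => D.F_conj (S.P_fix _ p.2) _ he⟩
  have hne : D.F.subgroupOf S.P ≠ ⊥ := fun e => by
    have : (⟨c, D.F_le hc⟩ : S.P) ∈ D.F.subgroupOf S.P := hc
    rw [e, Subgroup.mem_bot] at this
    exact hc1 (congrArg Subtype.val this)
  obtain ⟨z, hz, hz1⟩ := (bot_or_exists_ne_one _).resolve_left (CfsgLib.PGroupBasic.inf_center_ne_bot _ hne)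
  obtain ⟨g, hga, -, -, rfl⟩ := D.conj_trans (c := (z : G)) hz.1 (fun e => hz1 (Subtype.ext e)) hc hc1
  have hu' : g⁻¹ * u * g ∈ S.P := by simpa using S.P_conj (inv_smul_eq_iff.2 hga.symm) hu
  have h : g⁻¹ * u * g * (z : G) = z * (g⁻¹ * u * g) := congrArg Subtype.val (mem_center_iff.1 hz.2 ⟨_, hu'⟩)
  calc g * (z : G) * g⁻¹ * u = g * ((z : G) * (g⁻¹ * u * g)) * g⁻¹ := by group
    _ = g * (g⁻¹ * u * g * (z : G)) * g⁻¹ := by rw [h]
    _ = u * (g * (z : G) * g⁻¹) := by group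

/-- The elements of `P` central modulo `F`. -/
def Zh : Subgroup G where
  carrier := {v | v ∈ S.P ∧ ∀ u ∈ S.P, v * u * v⁻¹ * u⁻¹ ∈ D.F}
  one_mem' := ⟨one_mem _, fun u _ => by simp [one_mem]⟩
  mul_mem' := by
    rintro v w ⟨hv, hv'⟩ ⟨hw, hw'⟩
    refine ⟨mul_mem hv hw, fun u hu => ?_⟩
    rw [show v * w * u * (v * w)⁻¹ * u⁻¹ = v * (w * u * w⁻¹ * u⁻¹) * v⁻¹ * (v * u * v⁻¹ * u⁻¹) by group]
    exact mul_mem (D.F_conj (S.P_fix v hv) _ (hw' u hu)) (hv' u hu)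
  inv_mem' := by
    rintro v ⟨hv, hv'⟩
    refine ⟨inv_mem hv, fun u hu => ?_⟩
    rw [show v⁻¹ * u * v⁻¹⁻¹ * u⁻¹ = v⁻¹ * (v * u * v⁻¹ * u⁻¹)⁻¹ * v⁻¹⁻¹ by group]
    exact D.F_conj (S.P_fix _ (inv_mem hv)) _ (inv_mem (hv' u hu))

theorem Zh_le : D.Zh ≤ S.P := fun _ h => h.1

theorem Zh_conj {g : G} (hg : g • S.a = S.a) {v : G} (hv : v ∈ D.Zh) : g * v * g⁻¹ ∈ D.Zh := by
  refine ⟨S.P_conj hg hv.1, fun u hu => ?_⟩
  have hu' : g⁻¹ * u * g ∈ S.P := by simpa using S.P_conj (inv_smul_eq_iff.2 hg.symm) hu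
  have h := D.F_conj hg _ (hv.2 _ hu')
  rwa [show g * (v * (g⁻¹ * u * g) * v⁻¹ * (g⁻¹ * u * g)⁻¹) * g⁻¹ = g * v * g⁻¹ * u * (g * v * g⁻¹)⁻¹ * u⁻¹ by
    group] at h

theorem F_le_Zh : D.F ≤ D.Zh := fun c hc => ⟨D.F_le hc, fun u hu => by
  rw [(D.F_central hc hu).eq, mul_inv_cancel_right, mul_inv_cancel]; exact one_mem _⟩

theorem dl_mem {τ v : G} (hτ : τ ∈ S.P) (hv : v ∈ D.Zh) : dl τ v ∈ D.F := by
  have := inv_mem (hv.2 τ hτ)
  rwa [show (v * τ * v⁻¹ * τ⁻¹)⁻¹ = τ * v * τ⁻¹ * v⁻¹ by group] at this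

theorem dl_mul {τ v w : G} (hτ : τ ∈ S.P) (hv : v ∈ D.Zh) (hw : w ∈ D.Zh) :
    dl τ (v * w) = dl τ v * dl τ w := by
  calc dl τ (v * w) = τ * v * τ⁻¹ * (dl τ w * v⁻¹) := by simp only [dl]; group
    _ = τ * v * τ⁻¹ * (v⁻¹ * dl τ w) := by rw [(D.F_central (D.dl_mem hτ hw) (inv_mem hv.1)).eq]
    _ = dl τ v * dl τ w := by simp only [dl, mul_assoc]

theorem dl_mul_left {σ τ v : G} (hσ : σ ∈ S.P) (hτ : τ ∈ S.P) (hv : v ∈ D.Zh) :
    dl (σ * τ) v = dl σ v * dl τ v := by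
  calc dl (σ * τ) v = σ * dl τ v * (v * σ⁻¹ * v⁻¹) := by simp only [dl]; group
    _ = dl τ v * σ * (v * σ⁻¹ * v⁻¹) := by rw [(D.F_central (D.dl_mem hτ hv) hσ).eq]
    _ = dl τ v * dl σ v := by simp only [dl, mul_assoc]
    _ = dl σ v * dl τ v := (D.F_comm (D.dl_mem hτ hv) (D.dl_mem hσ hv)).eq

theorem Zh_normalizer {v : G} (hv : v ∈ D.Zh) (hn : v ∈ normalizer (S.T : Set G)) : v ∈ D.F := by
  obtain ⟨c, hc, τ, hτ, rfl⟩ := D.decomp v hv.1 hn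
  have hτZ : τ ∈ D.Zh := by
    have := mul_mem (inv_mem (D.F_le_Zh hc)) hv
    rwa [inv_mul_cancel_left] at this
  have : τ = 1 := by
    refine S.no_line hτ fun x => ?_
    rcases eq_or_ne x S.a with rfl | hx
    · rw [S.P_fix τ hτ.1]; exact left_mem_line _ _
    obtain ⟨u, hu, rfl⟩ := S.P_trans hx
    have hf := (inv_mem hτZ).2 u⁻¹ (inv_mem hu)
    rw [inv_inv, inv_inv] at hf
    have h1 : u⁻¹ • τ • u • S.b ∈ S.L := by
      rw [← mul_smul, ← mul_smul, show u⁻¹ * τ * u = τ * (τ⁻¹ * u⁻¹ * τ * u) by group, mul_smul]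
      exact (S.normalizer_smul (le_normalizer hτ)).2 ((S.normalizer_smul (D.F_norm hf)).2 S.b_mem)
    have h2 := (smul_mem_line u).2 (h1 : u⁻¹ • τ • u • S.b ∈ line G S.a S.b)
    rwa [smul_inv_smul, S.P_fix u hu] at h2
  rw [this, mul_one]; exact hc

theorem Zh_T {τ : G} (hτ : τ ∈ D.Zh) (hT : τ ∈ S.T) : τ = 1 :=
  D.F_free τ (D.Zh_normalizer hτ (le_normalizer hT)) S.b S.hne.symm hT.2

theorem exists_Zh : ∃ v ∈ D.Zh, v ∉ D.F := by
  haveI : Fact (Nat.Prime 2) := ⟨Nat.prime_two⟩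
  haveI := S.pP.isNilpotent
  haveI : (D.F.subgroupOf S.P).Normal := ⟨fun e he p => D.F_conj (S.P_fix _ p.2) _ he⟩
  have hlt : D.F.subgroupOf S.P < ⊤ := by
    rw [lt_top_iff_ne_top]
    intro e
    have h : (⟨D.j, D.j_mem.1⟩ : S.P) ∈ D.F.subgroupOf S.P := e ▸ Subgroup.mem_top _
    exact D.j_ne (D.F_free D.j h S.b S.hne.symm D.j_mem.2)
  obtain ⟨x, -, hx, hx'⟩ := CfsgLib.PGroupBasic.exists_central_mod _ _ hlt
  exact ⟨x, ⟨x.2, fun u hu => hx' ⟨u, hu⟩⟩, hx⟩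

theorem dl_j {v : G} (hv : v ∈ D.Zh) (h : dl D.j v = 1) : v ∈ D.F := by
  have hb : D.j • v • S.b = v • S.b := by
    rw [← mul_smul, (dl_eq_one.1 h).eq, mul_smul, S.fix_L D.j_mem S.b_mem]
  exact D.Zh_normalizer hv (S.normalizer_of_mem (by rw [S.P_fix v hv.1]; exact S.a_mem) (D.j_fix _ hb))

theorem key {v v' : G} (hv : v ∈ D.Zh) (hvF : v ∉ D.F) (hv' : v' ∈ D.Zh) (hvF' : v' ∉ D.F) :
    ∃ g : G, g • S.a = S.a ∧ g • S.b = S.b ∧ (∀ τ ∈ S.T, Commute g τ) ∧ ∃ f ∈ D.F, v' = f * (g * v * g⁻¹) := by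
  obtain ⟨g, hga, hgb, hgT, hg⟩ := D.conj_trans (D.dl_mem D.j_mem.1 hv) (fun h => hvF (D.dl_j hv h))
    (D.dl_mem D.j_mem.1 hv') fun h => hvF' (D.dl_j hv' h)
  refine ⟨g, hga, hgb, hgT, v' * (g * v * g⁻¹)⁻¹, ?_, by group⟩
  have hgv := D.Zh_conj hga hv
  refine D.dl_j (mul_mem hv' (inv_mem hgv)) ?_
  have h1 : dl D.j (v' * (g * v * g⁻¹)⁻¹) * dl D.j (g * v * g⁻¹) = dl D.j v' := by
    rw [← D.dl_mul D.j_mem.1 (mul_mem hv' (inv_mem hgv)) hgv, inv_mul_cancel_right]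
  rwa [dl_conj g (hgT _ D.j_mem), hg, mul_eq_right] at h1

theorem exists_dl {c : G} (hc : c ∈ D.F) : ∃ v ∈ D.Zh, dl D.j v = c := by
  rcases eq_or_ne c 1 with rfl | hc1
  · exact ⟨1, one_mem _, by simp [dl]⟩
  obtain ⟨v, hv, hvF⟩ := D.exists_Zh
  obtain ⟨g, hga, -, hgT, hg⟩ := D.conj_trans (D.dl_mem D.j_mem.1 hv) (fun h => hvF (D.dl_j hv h)) hc hc1
  exact ⟨g * v * g⁻¹, D.Zh_conj hga hv, by rw [dl_conj g (hgT _ D.j_mem), hg]⟩

end Data

end CfsgLib.Recog.RankOneSuzuki.Sat
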