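import Cfsg.Agent.Recog.RankOneSuzuki.Sat.Lines

/-!
# Split rank one actions: counting fixed points of involutions
-/

set_option autoImplicit false
set_option linter.unusedSectionVars false
set_option linter.style.haveILetI false

namespace CfsgLib.Recog.RankOneSuzuki.Sat

open Subgroup

/-- The numerical squeeze. -/
theorem arith {d s r N S : ℕ} (hn : 2 ^ r + 1 = (2 ^ d + 1) * (1 + S)) (hS : S ≠ 0) (hsd : s ≤ d)
    (hN : N ≤ 2 ^ s) (hX : 2 ^ d + S ≤ N * 2 ^ d) :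
    r = 3 * d ∧ s = d ∧ N = 2 ^ d ∧ 2 ^ d + S = N * 2 ^ d := by
  have hN' : N ≤ 2 ^ d := hN.trans (Nat.pow_le_pow_right (by norm_num) hsd)
  have hX' : 2 ^ d + S ≤ 2 ^ d * 2 ^ d := hX.trans (Nat.mul_le_mul_right _ hN')
  have h3 : 2 ^ (3 * d) = 2 ^ d * (2 ^ d * 2 ^ d) := by rw [← pow_add, ← pow_add]; ring_nf
  have hle : r ≤ 3 * d := by
    refine (Nat.pow_le_pow_iff_right (le_refl 2)).1 ?_
    rw [h3]
    nlinarith [Nat.mul_le_mul_left (2 ^ d + 1) hX']
  have hdvd : 2 ^ d + 1 ∣ 2 ^ r + 1 := ⟨_, hn⟩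
  have hpos : 0 < 2 ^ d := Nat.two_pow_pos d
  have hdr : d < r := by
    by_contra h
    have := Nat.pow_le_pow_right (n := 2) (by norm_num) (not_lt.1 h)
    nlinarith [Nat.pos_of_ne_zero hS]
  have hr : r = 3 * d := by
    by_contra hne
    obtain ⟨ρ, hρ, hρd⟩ : ∃ ρ, (r = d + ρ ∨ r = 2 * d + ρ) ∧ ρ < d :=
      if h : r < 2 * d then ⟨r - d, Or.inl (by omega), by omega⟩
      else ⟨r - 2 * d, Or.inr (by omega), by omega⟩
    have hρ1 : 1 ≤ 2 ^ ρ := Nat.one_le_two_pow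
    have hlt : 2 ^ ρ < 2 ^ d := Nat.pow_lt_pow_right (by norm_num) hρd
    rcases hρ with e | e
    · have hρ0 : ρ ≠ 0 := by omega
      have h1 : 2 ^ d + 1 ∣ 2 ^ r + 2 ^ ρ := ⟨2 ^ ρ, by rw [e, pow_add]; ring⟩
      have h2 := Nat.dvd_sub h1 hdvd
      have h2' : 2 ≤ 2 ^ ρ := Nat.le_self_pow hρ0 2
      have := Nat.le_of_dvd (by omega) h2
      omega
    · have h1 : 2 ^ d + 1 ∣ 2 ^ r + 2 ^ (d + ρ) := ⟨2 ^ (d + ρ), by rw [e, pow_add, pow_add, two_mul, pow_add]; ring⟩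
      have h2 : 2 ^ d + 1 ∣ 2 ^ (d + ρ) + 2 ^ ρ := ⟨2 ^ ρ, by rw [pow_add]; ring⟩
      have h3 : 2 ^ d + 1 ∣ 2 ^ ρ + 1 := by
        have h4 := Nat.dvd_sub h1 hdvd
        have h5 : 1 ≤ 2 ^ (d + ρ) := Nat.one_le_two_pow
        have h6 := Nat.dvd_sub h2 h4
        have e6 : 2 ^ (d + ρ) + 2 ^ ρ - (2 ^ r + 2 ^ (d + ρ) - (2 ^ r + 1)) = 2 ^ ρ + 1 := by omega
        rwa [e6] at h6
      have := Nat.le_of_dvd (by omega) h3
      omega
  subst hr
  have hS' : 2 ^ d + S = 2 ^ d * 2 ^ d := by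
    nlinarith [h3]
  have hN2 : N = 2 ^ d := by
    refine le_antisymm hN' (Nat.le_of_mul_le_mul_right ?_ hpos)
    rw [← hS']; exact hX
  refine ⟨rfl, le_antisymm hsd ((Nat.pow_le_pow_iff_right (le_refl 2)).1 (hN2 ▸ hN)), hN2, ?_⟩
  rw [hN2, hS']

/-- A free action forces divisibility. -/
theorem dvd_ncard_of_free {G Ω : Type*} [Group G] [MulAction G Ω] (F : Subgroup G) (X : Set Ω)
    (hinv : ∀ c ∈ F, ∀ x ∈ X, c • x ∈ X) (hfree : ∀ c ∈ F, ∀ x ∈ X, c • x = x → c = 1) :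
    Nat.card F ∣ X.ncard := by
  letI : MulAction F X :=
    { smul := fun c x => ⟨(c : G) • (x : Ω), hinv c c.2 x x.2⟩
      one_smul := fun x => Subtype.ext (one_smul G (x : Ω))
      mul_smul := fun c d x => Subtype.ext (mul_smul (c : G) (d : G) (x : Ω)) }
  have h : ∀ x : X, MulAction.stabilizer F x = ⊥ := fun x => by
    rw [Subgroup.eq_bot_iff_forall]
    exact fun c hc => Subtype.ext (hfree c c.2 x x.2 (congrArg Subtype.val hc))
  rw [← Nat.card_coe_set_eq, Nat.card_congr (MulAction.selfEquivOrbitsQuotientProd h), Nat.card_prod]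
  exact dvd_mul_left _ _

variable {G Ω : Type*} [Group G] [MulAction G Ω]

/-- The fixed points of an element. -/
def Fx (t : G) : Set Ω := {x | t • x = x}

/-- The moved points whose line through their image contains a given point. -/
def fib (t : G) (y : Ω) : Set Ω := {x | t • x ≠ x ∧ y ∈ line G x (t • x)}

namespace Cfg

variable (S : Cfg G Ω)
include S

variable [Finite G] [FaithfulSMul G Ω] [IsSimpleGroup G]

theorem exists_centralizer {t : G} (ht : t ∈ S.P) {x : Ω} (hx : t • x = x) :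
    ∃ g : G, Commute g t ∧ g • S.a = x := by
  rcases eq_or_ne x S.a with rfl | hxa
  · exact ⟨1, Commute.one_left t, one_smul G _⟩
  obtain ⟨u, hu, rfl⟩ := S.P_trans hxa
  obtain ⟨g, hga, -, hgc⟩ := S.exists_swap
  have hT : u⁻¹ * t * u ∈ S.T :=
    ⟨S.P.mul_mem (S.P.mul_mem (S.P.inv_mem hu) ht) hu, show (u⁻¹ * t * u) • S.b = S.b by
      rw [mul_smul, mul_smul, hx, inv_smul_smul]⟩
  refine ⟨u * g * u⁻¹, ?_, ?_⟩
  · show u * g * u⁻¹ * t = t * (u * g * u⁻¹)
    calc u * g * u⁻¹ * t = u * (g * (u⁻¹ * t * u)) * u⁻¹ := by group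
      _ = u * (u⁻¹ * t * u * g) * u⁻¹ := by rw [(hgc _ hT).eq]
      _ = t * (u * g * u⁻¹) := by group
  · rw [mul_smul, mul_smul, S.P_fix _ (inv_mem hu), hga]

/-- The midpoint of a moved point. -/
theorem exists_mid {t : G} (ht2 : t * t = 1) {x : Ω} (hx : t • x ≠ x) :
    ∃! y : Ω, y ∈ line G x (t • x) ∧ t • y = y := by
  haveI := S.finite_pts
  have htt : t • t • x = x := by rw [← mul_smul, ht2, one_smul]
  have hinv : ∀ w ∈ line G x (t • x), t • w ∈ line G x (t • x) := fun w hw => by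
    have := (smul_mem_line t).2 hw
    rwa [htt, line_comm] at this
  obtain ⟨y, hy⟩ := exists_fixed (fun w : line G x (t • x) => ⟨t • (w : Ω), hinv w w.2⟩)
    (fun w => Subtype.ext (by simp [← mul_smul, ht2])) (S.odd_line' hx.symm)
  refine ⟨y, ⟨y.2, congrArg Subtype.val hy⟩, ?_⟩
  rintro y' ⟨hy', hy'f⟩
  by_contra hne
  refine hx ?_
  have h : x ∈ line G y' (y : Ω) := by
    rw [S.line_eq hx.symm hy' y.2 hne]; exact left_mem_line _ _
  exact h t ⟨two_of_mul_self ht2, hy'f, congrArg Subtype.val hy⟩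

theorem ncard_fib {t : G} {g : G} (hg : Commute g t) :
    (fib t (g • S.a)).ncard = (fib t S.a).ncard := by
  have : fib t (g • S.a) = (fun x => g • x) '' fib t S.a := by
    ext x
    constructor
    · rintro ⟨hx, hline⟩
      refine ⟨g⁻¹ • x, ⟨?_, ?_⟩, smul_inv_smul g x⟩
      · rw [← mul_smul, ← hg.inv_left.eq, mul_smul]
        exact fun e => hx (smul_left_cancel g⁻¹ e)
      · rw [← smul_mem_line g, smul_inv_smul, ← mul_smul, ← mul_smul,
          hg.eq, mul_inv_cancel_right]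
        exact hline
    · rintro ⟨w, ⟨hw, hline⟩, rfl⟩
      have e : t • g • w = g • t • w := by rw [← mul_smul, ← hg.eq, mul_smul]
      refine ⟨fun h => hw (smul_left_cancel g (e.symm.trans h)), ?_⟩
      show g • S.a ∈ line G (g • w) (t • g • w)
      rw [e, smul_mem_line]
      exact hline
  rw [this, Set.ncard_image_of_injective _ (MulAction.injective g)]

/-- All points are fixed, or have a fixed midpoint. -/
theorem card_pts {t : G} (ht : t ∈ S.P) (ht2 : t * t = 1) :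
    Nat.card Ω = (Fx t : Set Ω).ncard * (1 + (fib t S.a).ncard) := by
  classical
  haveI := S.finite_pts
  haveI : Fintype Ω := Fintype.ofFinite Ω
  have hp : ∀ x : Ω, ∃ y : Ω, t • y = y ∧ ((t • x = x ∧ y = x) ∨ (t • x ≠ x ∧ y ∈ line G x (t • x))) := by
    intro x
    by_cases h : t • x = x
    · exact ⟨x, h, Or.inl ⟨h, rfl⟩⟩
    · obtain ⟨y, ⟨hy, hy'⟩, -⟩ := S.exists_mid ht2 h
      exact ⟨y, hy', Or.inr ⟨h, hy⟩⟩
  choose p hpf hpp using hp
  rw [Nat.card_eq_fintype_card, ← Finset.card_univ,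
    Finset.card_eq_sum_card_fiberwise (f := p) (t := (Fx t : Set Ω).toFinset) (fun x _ => Finset.mem_coe.2 (Set.mem_toFinset.2 (hpf x)))]
  rw [Finset.sum_const_nat (m := 1 + (fib t S.a).ncard), ← Set.ncard_eq_toFinset_card']
  intro y hy
  have hy0 : y ∈ Fx t := Set.mem_toFinset.1 hy
  have hy' : t • y = y := hy0
  obtain ⟨g, hg, rfl⟩ := S.exists_centralizer ht hy'
  have e : (({x | p x = g • S.a} : Set Ω)) = insert (g • S.a) (fib t (g • S.a)) := by
    ext x
    simp only [Set.mem_ofPred_eq, Set.mem_insert_iff, fib]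
    constructor
    · intro hx
      rcases hpp x with ⟨-, h⟩ | h
      · exact Or.inl (h.symm.trans hx)
      · exact Or.inr ⟨h.1, hx ▸ h.2⟩
    · rintro (rfl | ⟨h, hl⟩)
      · rcases hpp (g • S.a) with ⟨-, h⟩ | h
        · exact h
        · exact absurd hy' h.1
      · rcases hpp x with ⟨h', -⟩ | h'
        · exact absurd h' h
        · exact (S.exists_mid ht2 h).unique ⟨h'.2, hpf x⟩ ⟨hl, hy'⟩
  rw [show (Finset.univ.filter fun x => p x = g • S.a) = ({x | p x = g • S.a} : Set Ω).toFinset by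
    ext; simp, ← Set.ncard_eq_toFinset_card', e, Set.ncard_insert_of_notMem (fun h => h.1 hy') (Set.toFinite _),
    S.ncard_fib hg, add_comm]

/-- A moved point has its midpoint at `a` exactly when the line through `a` is preserved. -/
theorem mem_fib_iff {t : G} (ht : t ∈ S.P) {x : Ω} (hx : t • x ≠ x) :
    x ∈ fib t S.a ↔ t • x ∈ line G S.a x := by
  have hxa : x ≠ S.a := fun e => hx (by rw [e, S.P_fix t ht])
  constructor
  · rintro ⟨-, h⟩
    rw [S.line_eq hx.symm h (left_mem_line _ _) hxa.symm]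
    exact right_mem_line _ _
  · intro h
    refine ⟨hx, ?_⟩
    rw [S.line_eq hxa.symm (right_mem_line _ _) h hx.symm]
    exact left_mem_line _ _

/-- An involution of `P` fixing one point preserves every line through it. -/
theorem line_of_one_fixed {c : G} (hc : c ∈ S.P) (hc2 : c * c = 1)
    (huniq : ∀ x, c • x = x → x = S.a) (x : Ω) : c • x ∈ line G S.a x := by
  haveI := S.finite_pts
  by_cases hx : c • x = x
  · rw [huniq x hx, S.P_fix c hc]; exact left_mem_line _ _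
  have hF : (Fx c : Set Ω) = {S.a} := Set.eq_singleton_iff_unique_mem.2 ⟨S.P_fix c hc, huniq⟩
  have h := S.card_pts hc hc2
  rw [hF, Set.ncard_singleton, one_mul] at h
  have hsub : fib c S.a ⊆ ({S.a}ᶜ : Set Ω) := fun w hw e => hw.1 (by
    rw [Set.mem_singleton_iff.1 e, S.P_fix c hc])
  have he : fib c S.a = ({S.a}ᶜ : Set Ω) := Set.eq_of_subset_of_ncard_le hsub (by
    rw [Set.ncard_compl, Set.ncard_singleton]; omega)
  refine (S.mem_fib_iff hc hx).1 ?_
  rw [he]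
  exact fun e => hx (by rw [Set.mem_singleton_iff.1 e, S.P_fix c hc])

/-- Orbits of subgroups of `P` have two-power size. -/
theorem ncard_orbit {A : Subgroup G} (hA : A ≤ S.P) (x : Ω) :
    ∃ d, ({y : Ω | ∃ u ∈ A, u • x = y}).ncard = 2 ^ d := by
  haveI := S.finite_pts
  haveI : Fact (Nat.Prime 2) := ⟨Nat.prime_two⟩
  obtain ⟨d, hd⟩ := (S.pP.to_le hA).card_orbit (α := Ω) x
  refine ⟨d, ?_⟩
  rw [← hd, Nat.card_coe_set_eq]
  congr 1
  ext y
  simp [MulAction.mem_orbit_iff, Subgroup.smul_def]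

theorem others_eq : ({S.a}ᶜ : Set Ω) = {y | ∃ u ∈ S.P, u • S.b = y} := by
  ext y
  refine ⟨fun h => S.P_trans h, ?_⟩
  rintro ⟨u, hu, rfl⟩ (e : u • S.b = S.a)
  exact S.hne (smul_left_cancel u (e.trans (S.P_fix u hu).symm)).symm

theorem pts_pow : ∃ r, Nat.card Ω = 2 ^ r + 1 := by
  haveI := S.finite_pts
  obtain ⟨r, hr⟩ := S.ncard_orbit le_rfl S.b
  refine ⟨r, ?_⟩
  rw [← hr, ← S.others_eq, ← Set.ncard_add_ncard_compl ({S.a} : Set Ω), Set.ncard_singleton]
  omega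

theorem line_pow : ∃ s, 1 ≤ s ∧ S.L.ncard = 2 ^ s + 1 := by
  haveI := S.finite_pts
  obtain ⟨s, hs⟩ := S.ncard_orbit (A := S.P ⊓ normalizer (S.T : Set G)) inf_le_left S.b
  have e : {y : Ω | ∃ u ∈ S.P ⊓ normalizer (S.T : Set G), u • S.b = y} = S.L \ {S.a} := by
    ext y
    constructor
    · rintro ⟨u, hu, rfl⟩; exact S.line_of_normalizer hu.1 hu.2
    · rintro ⟨hy, hya⟩
      obtain ⟨u, hu, hn, h⟩ := S.line_trans hy hya
      exact ⟨u, ⟨hu, hn⟩, h⟩
  rw [e, Set.ncard_sdiff_singleton_of_mem S.a_mem] at hs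
  have hpos : 0 < S.L.ncard := (Set.ncard_pos).2 ⟨_, S.a_mem⟩
  refine ⟨s, Nat.one_le_iff_ne_zero.2 fun h0 => ?_, by omega⟩
  have hodd := S.odd_line
  rw [Nat.card_coe_set_eq, show S.L.ncard = 2 by rw [h0] at hs; omega] at hodd
  exact Nat.not_even_iff_odd.2 hodd even_two

end Cfg

end CfsgLib.Recog.RankOneSuzuki.Sat
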