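import Cfsg.Agent.Recog.RankOneSuzuki.Sat.Count

/-!
# Split rank one actions: the elementary abelian group acting regularly on the lines through a point
-/

set_option autoImplicit false
set_option linter.unusedSectionVars false
set_option linter.style.haveILetI false

namespace CfsgLib.Recog.RankOneSuzuki.Sat

open Subgroup

variable {G Ω : Type*} [Group G] [MulAction G Ω]

/-- What the counting gives. -/
structure Data (S : Cfg G Ω) where
  q : ℕ
  F : Subgroup G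
  j : G
  j_mem : j ∈ S.T
  j_sq : j * j = 1
  j_ne : j ≠ 1
  j_comm : ∀ τ ∈ S.T, Commute j τ
  j_fix : ∀ x : Ω, j • x = x → x ∈ S.L
  F_le : F ≤ S.P
  F_sq : ∀ c ∈ F, c * c = 1
  F_conj : ∀ {g : G}, g • S.a = S.a → ∀ c ∈ F, g * c * g⁻¹ ∈ F
  F_free : ∀ c ∈ F, ∀ x : Ω, x ≠ S.a → c • x = x → c = 1
  F_line : ∀ c ∈ F, ∀ x : Ω, c • x ∈ line G S.a x
  F_T : ∀ c ∈ F, ∀ τ ∈ S.T, Commute c τ
  F_norm : F ≤ normalizer (S.T : Set G)
  decomp : ∀ u ∈ S.P, u ∈ normalizer (S.T : Set G) → ∃ c ∈ F, ∃ τ ∈ S.T, u = c * τ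
  card_F : Nat.card F = q
  four_le : 4 ≤ q
  card_L : S.L.ncard = q + 1
  card_pts : Nat.card Ω = q ^ 3 + 1

/-- The commutator with an involution. -/
def com (j u : G) : G := j * u⁻¹ * j * u

theorem conj_eq_com {j : G} (hj : j * j = 1) (u : G) : u⁻¹ * j * u = j * com j u := by
  simp only [com, ← mul_assoc, hj, one_mul]

theorem exists_sq_one {g : G} (hg : Two g) (h1 : g ≠ 1) : ∃ m : ℕ, g ^ m ≠ 1 ∧ g ^ m * g ^ m = 1 := by
  obtain ⟨k, hk⟩ := hg
  induction k with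
  | zero => rw [pow_zero, pow_one] at hk; exact absurd hk h1
  | succ k ih =>
    by_cases h : g ^ 2 ^ k = 1
    · exact ih h
    · exact ⟨2 ^ k, h, by rw [← pow_add, ← two_mul, ← pow_succ', hk]⟩

namespace Cfg

variable (S : Cfg G Ω)
include S

variable [Finite G] [FaithfulSMul G Ω] [IsSimpleGroup G]

theorem line_mul {c d : G} (hd : d ∈ S.P) (hcl : ∀ x : Ω, c • x ∈ line G S.a x)
    (hdl : ∀ x : Ω, d • x ∈ line G S.a x) (x : Ω) : (c * d) • x ∈ line G S.a x := by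
  rw [mul_smul]
  rcases eq_or_ne x S.a with rfl | hx
  · rw [S.P_fix d hd]; exact hcl _
  · have hne : S.a ≠ d • x := fun e => hx (smul_left_cancel d (e.symm.trans (S.P_fix d hd).symm))
    rw [← S.line_eq hx.symm (left_mem_line _ _) (hdl x) hne]
    exact hcl _

/-- No nontrivial element of the base intersection preserves every line through `a`. -/
theorem no_line {τ : G} (hτ : τ ∈ S.T) (hl : ∀ x : Ω, τ • x ∈ line G S.a x) : τ = 1 := by
  haveI := S.finite_pts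
  by_contra h1
  obtain ⟨m, hm1, hm2⟩ := exists_sq_one (S.two_of_mem hτ.1) h1
  have hml : ∀ k : ℕ, ∀ x : Ω, (τ ^ k) • x ∈ line G S.a x := by
    intro k
    induction k with
    | zero => intro x; rw [pow_zero, one_smul]; exact right_mem_line _ _
    | succ k ih => intro x; rw [pow_succ]; exact S.line_mul hτ.1 ih hl x
  set t := τ ^ m with ht
  have htT : t ∈ S.T := pow_mem hτ m
  have e : fib t S.a = (Fx t : Set Ω)ᶜ := by
    ext x
    refine ⟨fun h => h.1, fun h => (S.mem_fib_iff htT.1 h).2 (hml m x)⟩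
  have hc := S.card_pts htT.1 hm2
  rw [e] at hc
  have hsum := Set.ncard_add_ncard_compl (Fx t : Set Ω)
  have hL : 2 ≤ (Fx t : Set Ω).ncard := by
    calc 2 = ({S.a, S.b} : Set Ω).ncard := (Set.ncard_pair S.hne).symm
      _ ≤ _ := Set.ncard_le_ncard (by
        rintro x (rfl | rfl)
        exacts [S.P_fix t htT.1, S.fix_L htT S.b_mem])
  have hpos : (Fx t : Set Ω)ᶜ.ncard ≠ 0 := by
    rw [← Nat.pos_iff_ne_zero, Set.ncard_pos]
    by_contra hne
    rw [Set.not_nonempty_iff_eq_empty, Set.compl_empty_iff, Set.eq_univ_iff_forall] at hne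
    exact hm1 (FaithfulSMul.eq_of_smul_eq_smul fun x : Ω => by rw [one_smul]; exact hne x)
  nlinarith [Nat.pos_of_ne_zero hpos]

/-- A level: a normal subgroup without fixed points together with an involution commuting with it
modulo. -/
theorem exists_level : ∃ (N : Subgroup G) (j : G), N ≤ S.P ∧
    (∀ g : G, g • S.a = S.a → ∀ c ∈ N, g * c * g⁻¹ ∈ N) ∧
    (∀ c ∈ N, ∀ x : Ω, x ≠ S.a → c • x = x → c = 1) ∧
    j ∈ S.T ∧ j * j = 1 ∧ j ≠ 1 ∧ (∀ τ ∈ S.T, Commute j τ) ∧ ∀ u ∈ S.P, com j u ∈ N := by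
  classical
  haveI : Fact (Nat.Prime 2) := ⟨Nat.prime_two⟩
  haveI := S.pP.isNilpotent
  haveI : Group.IsNilpotent S.T := (S.pP.to_le (inf_le_left : S.T ≤ S.P)).isNilpotent
  let Z : ℕ → Subgroup G := fun i => (Subgroup.upperCentralSeries S.P i).map S.P.subtype
  have hconj : ∀ i (g : G), g • S.a = S.a → ∀ c ∈ Z i, g * c * g⁻¹ ∈ Z i := by
    rintro i g hg _ ⟨c, hc, rfl⟩
    let φ : S.P ≃* S.P :=
      { toFun := fun u => ⟨g * u * g⁻¹, S.P_conj hg u.2⟩
        invFun := fun u => ⟨g⁻¹ * u * g, by simpa using S.P_conj (inv_smul_eq_iff.2 hg.symm) u.2⟩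
        left_inv := fun u => Subtype.ext (by simp [mul_assoc])
        right_inv := fun u => Subtype.ext (by simp [mul_assoc])
        map_mul' := fun u v => Subtype.ext (by simp [mul_assoc]) }
    have h := (Subgroup.Characteristic.fixed (H := Subgroup.upperCentralSeries S.P i) inferInstance φ).ge hc
    exact ⟨φ c, h, rfl⟩
  have hex : ∃ i, ∃ g ∈ S.T, g ≠ 1 ∧ g ∈ Z i := by
    obtain ⟨g, hg, hg1⟩ := S.T_ne_bot
    obtain ⟨n, hn⟩ := Group.IsNilpotent.nilpotent (G := S.P)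
    exact ⟨n, g, hg, hg1, ⟨⟨g, hg.1⟩, by rw [hn]; exact Subgroup.mem_top _, rfl⟩⟩
  obtain ⟨k, hk⟩ : ∃ k, Nat.find hex = k + 1 := by
    refine Nat.exists_eq_succ_of_ne_zero fun h0 => ?_
    obtain ⟨g, -, hg1, hgZ⟩ := Nat.find_spec hex
    simp only [h0, Z, Subgroup.upperCentralSeries_zero, Subgroup.map_bot, Subgroup.mem_bot] at hgZ
    exact hg1 hgZ
  have hfree : ∀ c ∈ Z k, ∀ x : Ω, x ≠ S.a → c • x = x → c = 1 := by
    intro c hc x hx hcx
    obtain ⟨u, hu, rfl⟩ := S.P_trans hx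
    by_contra h1
    have h2 := hconj k u⁻¹ (inv_smul_eq_iff.2 (S.P_fix u hu).symm) c hc
    rw [inv_inv] at h2
    refine Nat.find_min hex (m := k) (by omega) ⟨u⁻¹ * c * u, ⟨?_, ?_⟩, ?_, h2⟩
    · exact Subgroup.map_subtype_le _ h2
    · show (u⁻¹ * c * u) • S.b = S.b
      rw [mul_smul, mul_smul, hcx, inv_smul_smul]
    · intro e
      refine h1 ?_
      calc c = u * (u⁻¹ * c * u) * u⁻¹ := by group
        _ = 1 := by rw [e]; group
  let A : Subgroup S.T := (Z (k + 1)).subgroupOf S.T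
  haveI : A.Normal := ⟨fun a ha t => hconj (k + 1) (t : G) (S.P_fix _ t.2.1) _ ha⟩
  have hA : A ≠ ⊥ := by
    obtain ⟨g, hg, hg1, hgZ⟩ := Nat.find_spec hex
    rw [hk] at hgZ
    intro e
    have : (⟨g, hg⟩ : S.T) ∈ A := hgZ
    rw [e, Subgroup.mem_bot] at this
    exact hg1 (congrArg Subtype.val this)
  obtain ⟨y, hy, hy1⟩ := (bot_or_exists_ne_one _).resolve_left (CfsgLib.PGroupBasic.inf_center_ne_bot A hA)
  obtain ⟨m, hm1, hm2⟩ := exists_sq_one (S.two_of_mem y.2.1) (fun e => hy1 (Subtype.ext e))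
  have hym : y ^ m ∈ A ⊓ center S.T := pow_mem hy m
  refine ⟨Z k, (y : G) ^ m, Subgroup.map_subtype_le _, hconj k, hfree, pow_mem y.2 m, hm2, hm1, ?_, ?_⟩
  · intro τ hτ
    have := congrArg Subtype.val (mem_center_iff.1 hym.2 ⟨τ, hτ⟩)
    simpa [Commute, SemiconjBy] using this.symm
  · intro u hu
    obtain ⟨v, hv, hve⟩ := hym.1
    have h := Subgroup.mem_upperCentralSeries_succ_iff.1 hv ⟨u⁻¹, inv_mem hu⟩
    refine ⟨_, h, ?_⟩
    have hve' : (v : G) = (y : G) ^ m := hve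
    simp [com, hve', commutatorElement_def, inv_eq_of_mul_eq_one_right hm2, mul_assoc]

theorem exists_data : Nonempty (Data S) := by
  classical
  haveI := S.finite_pts
  obtain ⟨N, j, hN, hNc, hfree, hjT, hj2, hj1, hjc, hjN⟩ := S.exists_level
  obtain ⟨r, hr⟩ := S.pts_pow
  obtain ⟨s, hs1, hs⟩ := S.line_pow
  set NT := N ⊓ normalizer (S.T : Set G) with hNT
  set C := S.P ⊓ centralizer {j} with hC
  have hCmem : ∀ {u : G}, u ∈ C ↔ u ∈ S.P ∧ Commute j u := fun {u} => by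
    rw [hC, mem_inf, mem_centralizer_singleton_iff]; exact and_congr_right fun _ => ⟨Eq.symm, Eq.symm⟩
  have fixC : ∀ u ∈ S.P, j • u • S.b = u • S.b → u ∈ C := by
    intro u hu h
    have hT : u⁻¹ * j * u ∈ S.T := ⟨S.P.mul_mem (S.P.mul_mem (S.P.inv_mem hu) hjT.1) hu, show (u⁻¹ * j * u) • S.b = S.b by
      rw [mul_smul, mul_smul, h, inv_smul_smul]⟩
    have hcT : com j u ∈ S.T := by
      rw [show com j u = j * (u⁻¹ * j * u) by simp [com, mul_assoc]]; exact mul_mem hjT hT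
    have h1 := hfree _ (hjN u hu) S.b S.hne.symm hcT.2
    refine hCmem.2 ⟨hu, ?_⟩
    calc j * u = u * (u⁻¹ * j * u) := by group
      _ = u * (j * com j u) := by rw [conj_eq_com hj2]
      _ = u * j := by rw [h1, mul_one]
  -- fixed points of `j`
  have horbit : {y : Ω | ∃ u ∈ C, u • S.b = y} = (Fx j : Set Ω) \ {S.a} := by
    ext x
    constructor
    · rintro ⟨u, hu, rfl⟩
      refine ⟨?_, fun e => ?_⟩
      · show j • u • S.b = u • S.b
        rw [← mul_smul, (hCmem.1 hu).2.eq, mul_smul, S.fix_L hjT S.b_mem]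
      · exact S.hne (smul_left_cancel u ((Set.mem_singleton_iff.1 e).trans (S.P_fix u hu.1).symm)).symm
    · rintro ⟨hx, hxa⟩
      obtain ⟨u, hu, rfl⟩ := S.P_trans hxa
      exact ⟨u, fixC u hu hx, rfl⟩
  obtain ⟨d, hd⟩ := S.ncard_orbit (A := C) inf_le_left S.b
  have hd' : (Fx j : Set Ω).ncard = 2 ^ d + 1 := by
    rw [← hd, horbit, Set.ncard_sdiff_singleton_of_mem (show S.a ∈ Fx j from S.P_fix j hjT.1)]
    have : 0 < (Fx j : Set Ω).ncard := (Set.ncard_pos).2 ⟨_, S.P_fix j hjT.1⟩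
    omega
  have hsub : S.L ⊆ Fx j := fun x hx => S.fix_L hjT hx
  have hsd : s ≤ d := by
    refine (Nat.pow_le_pow_iff_right (le_refl 2)).1 ?_
    have := Set.ncard_le_ncard hsub
    omega
  have hS0 : (fib j S.a).ncard ≠ 0 := by
    intro h0
    have h := S.card_pts hjT.1 hj2
    rw [h0, Nat.add_zero, mul_one, ← Set.ncard_univ] at h
    have h' := Set.eq_of_subset_of_ncard_le (Set.subset_univ (Fx j)) h.le
    exact hj1 (FaithfulSMul.eq_of_smul_eq_smul fun x : Ω => by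
      rw [one_smul]; exact Set.eq_univ_iff_forall.1 h' x)
  -- the count
  let X : Set Ω := ((Fx j : Set Ω) \ {S.a}) ∪ fib j S.a
  have hX : X.ncard = 2 ^ d + (fib j S.a).ncard := by
    rw [Set.ncard_union_eq (Set.disjoint_left.2 fun x h1 h2 => h2.1 h1.1), ← horbit, hd]
  have hXP : ∀ x ∈ X, ∀ u ∈ S.P, u • S.b = x → com j u ∈ NT := by
    intro x hx u hu hux
    refine ⟨hjN u hu, ?_⟩
    have hl : j • x ∈ line G S.a x := by
      rcases hx with h | h
      · rw [show j • x = x from h.1]; exact right_mem_line _ _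
      · exact (S.mem_fib_iff hjT.1 h.1).1 h
    have hl' : (u⁻¹ * j * u) • S.b ∈ S.L := by
      show _ ∈ line G S.a S.b
      rw [mul_smul, mul_smul, hux, ← smul_mem_line u, smul_inv_smul, S.P_fix u hu, hux]
      exact hl
    have hn : u⁻¹ * j * u ∈ normalizer (S.T : Set G) := S.normalizer_of_mem (by
      rw [mul_smul, mul_smul, S.P_fix u hu, S.P_fix j hjT.1, S.P_fix _ (inv_mem hu)]
      exact S.a_mem) hl'
    rw [show com j u = j * (u⁻¹ * j * u) by simp [com, mul_assoc]]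
    exact mul_mem (le_normalizer hjT) hn
  let P' : Set G := {u | u ∈ S.P ∧ com j u ∈ NT}
  let I : Set G := com j '' P'
  have hI : I ⊆ NT := by rintro _ ⟨u, hu, rfl⟩; exact hu.2
  have hP'1 : X.ncard * Nat.card S.T ≤ P'.ncard := by
    have hw : ∀ x : X, ∃ u ∈ S.P, u • S.b = (x : Ω) := fun x => S.P_trans fun e => by
      rcases x.2 with h | h
      · exact h.2 e
      · exact h.1 (by rw [e, S.P_fix j hjT.1])
    choose w hwP hwx using hw
    rw [← Nat.card_coe_set_eq, ← Nat.card_coe_set_eq, ← Nat.card_prod]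
    refine Nat.card_le_card_of_injective
      (fun p : X × S.T => (⟨w p.1 * p.2, mul_mem (hwP p.1) p.2.2.1,
        hXP p.1 p.1.2 _ (mul_mem (hwP p.1) p.2.2.1) (by rw [mul_smul, S.fix_L p.2.2 S.b_mem, hwx])⟩ : P')) ?_
    rintro ⟨x, τ⟩ ⟨x', τ'⟩ h
    have h' : w x * τ = w x' * τ' := congrArg Subtype.val h
    obtain rfl : x = x' := Subtype.ext (by
      have := congrArg (· • S.b) h'
      simpa [mul_smul, S.fix_L τ.2 S.b_mem, S.fix_L τ'.2 S.b_mem, hwx] using this)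
    exact Prod.ext rfl (Subtype.ext (mul_left_cancel h'))
  have hC2 : Nat.card C ≤ 2 ^ d * Nat.card S.T := by
    have hw : ∀ y : {y : Ω | ∃ u ∈ C, u • S.b = y}, ∃ u ∈ C, u • S.b = (y : Ω) := fun y => y.2
    choose w hwC hwy using hw
    rw [← hd, ← Nat.card_coe_set_eq, ← Nat.card_prod]
    refine Nat.card_le_card_of_injective (fun u : C =>
      ((⟨(u : G) • S.b, u, u.2, rfl⟩ : {y : Ω | ∃ u ∈ C, u • S.b = y}),
        (⟨(w ⟨(u : G) • S.b, u, u.2, rfl⟩)⁻¹ * u, S.P.mul_mem (S.P.inv_mem (hwC _).1) u.2.1,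
          show ((w ⟨(u : G) • S.b, u, u.2, rfl⟩)⁻¹ * (u : G)) • S.b = S.b by
            rw [mul_smul, inv_smul_eq_iff, hwy]⟩ : S.T))) ?_
    intro u v h
    simp only [Prod.mk.injEq, Subtype.mk.injEq] at h
    obtain ⟨h1, h2⟩ := h
    simp only [h1] at h2
    exact Subtype.ext (mul_left_cancel (congrArg Subtype.val h2))
  have hP'2 : P'.ncard ≤ I.ncard * Nat.card C := by
    have hw : ∀ c : I, ∃ u ∈ S.P, com j u = (c : G) := fun c => by
      obtain ⟨u, hu, h⟩ := c.2; exact ⟨u, hu.1, h⟩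
    choose w hwP hwc using hw
    rw [← Nat.card_coe_set_eq, ← Nat.card_coe_set_eq, ← Nat.card_prod]
    refine Nat.card_le_card_of_injective (fun u : P' => ((⟨com j u, u, u.2, rfl⟩ : I),
      (⟨(u : G) * (w ⟨com j u, u, u.2, rfl⟩)⁻¹, hCmem.2 ⟨mul_mem u.2.1 (inv_mem (hwP _)), ?_⟩⟩ : C))) ?_
    · set v := w ⟨com j u, u, u.2, rfl⟩ with hv
      have he : v⁻¹ * j * v = (u : G)⁻¹ * j * u := by rw [conj_eq_com hj2, conj_eq_com hj2, hv, hwc]
      show j * ((u : G) * v⁻¹) = u * v⁻¹ * j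
      calc j * ((u : G) * v⁻¹) = u * ((u : G)⁻¹ * j * u) * v⁻¹ := by group
        _ = u * (v⁻¹ * j * v) * v⁻¹ := by rw [he]
        _ = u * v⁻¹ * j := by group
    · intro u v h
      simp only [Prod.mk.injEq, Subtype.mk.injEq] at h
      obtain ⟨h1, h2⟩ := h
      simp only [h1] at h2
      exact Subtype.ext (mul_right_cancel h2)
  have hXI : X.ncard ≤ I.ncard * 2 ^ d := by
    refine Nat.le_of_mul_le_mul_right ?_ (Nat.card_pos (α := S.T))
    rw [mul_assoc]
    exact hP'1.trans (hP'2.trans (Nat.mul_le_mul_left _ hC2))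
  have hLm : (S.L \ {S.a}).ncard = 2 ^ s := by
    rw [Set.ncard_sdiff_singleton_of_mem S.a_mem, hs, Nat.add_sub_cancel]
  have hmaps : ∀ c ∈ NT, c • S.b ∈ S.L \ {S.a} := fun c hc => S.line_of_normalizer (hN hc.1) hc.2
  have hinj : Set.InjOn (fun c : G => c • S.b) NT := fun c hc d' hd' (e : c • S.b = d' • S.b) => by
    have := hfree (d'⁻¹ * c) (mul_mem (inv_mem hd'.1) hc.1) S.b S.hne.symm (by rw [mul_smul, e, inv_smul_smul])
    exact (inv_mul_eq_one.1 this).symm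
  have hNTs : (NT : Set G).ncard ≤ 2 ^ s := by
    rw [← hLm]; exact Set.ncard_le_ncard_of_injOn _ hmaps hinj
  have hIs : I.ncard ≤ 2 ^ s := (Set.ncard_le_ncard hI).trans hNTs
  have hcard := S.card_pts hjT.1 hj2
  rw [hr, hd'] at hcard
  obtain ⟨hr3, hsd', hI2, -⟩ := arith hcard hS0 hsd hIs (hX ▸ hXI)
  subst hsd'
  have hIeq : I = NT := Set.eq_of_subset_of_ncard_le hI (by rw [hI2]; exact hNTs)
  have hNT2 : (NT : Set G).ncard = 2 ^ s := hIeq ▸ hI2
  have hLFx : (Fx j : Set Ω) = S.L := (Set.eq_of_subset_of_ncard_le hsub (by rw [hd', hs])).symm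
  have hnC : ∀ u ∈ S.P, u ∈ normalizer (S.T : Set G) → Commute j u := fun u hu hn =>
    (hCmem.1 (fixC u hu (S.fix_L hjT (S.line_of_normalizer hu hn).1))).2
  -- elementary
  have hsq : ∀ c ∈ NT, c * c = 1 := by
    intro c hc
    obtain ⟨u, ⟨hu, -⟩, rfl⟩ := hIeq.symm.subset hc
    have hjc' := hnC _ (hN hc.1) hc.2
    have h1 : (j * com j u) * (j * com j u) = 1 := by
      rw [← conj_eq_com hj2, show u⁻¹ * j * u * (u⁻¹ * j * u) = u⁻¹ * (j * j) * u by group, hj2]; group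
    rw [mul_assoc, ← mul_assoc (com j u), ← hjc'.eq, mul_assoc, ← mul_assoc j, hj2, one_mul] at h1
    exact h1
  have hline : ∀ c ∈ NT, ∀ x : Ω, c • x ∈ line G S.a x := by
    intro c hc
    rcases eq_or_ne c 1 with rfl | hc1
    · intro x; rw [one_smul]; exact right_mem_line _ _
    · exact S.line_of_one_fixed (hN hc.1) (hsq c hc) fun x hx => by
        by_contra hxa; exact hc1 (hfree c hc.1 x hxa hx)
  have hcomm : ∀ c ∈ NT, ∀ τ ∈ S.T, Commute c τ := by
    intro c hc τ hτ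
    have h1 : τ * c * τ⁻¹ * c⁻¹ ∈ N := mul_mem (hNc τ (S.P_fix τ hτ.1) c hc.1) (inv_mem hc.1)
    have h2 : τ * c * τ⁻¹ * c⁻¹ ∈ S.T := by
      have := (mem_normalizer_iff.1 hc.2 τ⁻¹).1 (inv_mem hτ)
      simpa [mul_assoc] using mul_mem hτ this
    have h3 := hfree _ h1 S.b S.hne.symm h2.2
    exact (commute_iff_eq _ _).2 (by
      calc c * τ = (τ * c * τ⁻¹ * c⁻¹)⁻¹ * (τ * c) := by group
        _ = τ * c := by rw [h3]; group)
  have hdec : ∀ u ∈ S.P, u ∈ normalizer (S.T : Set G) → ∃ c ∈ NT, ∃ τ ∈ S.T, u = c * τ := by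
    intro u hu hn
    have himg : (fun c : G => c • S.b) '' (NT : Set G) = S.L \ {S.a} := by
      refine Set.eq_of_subset_of_ncard_le (Set.image_subset_iff.2 hmaps) ?_
      rw [hinj.ncard_image, hNT2, hLm]
    obtain ⟨c, hc, hcb⟩ := himg.symm.subset (show u • S.b ∈ S.L \ {S.a} from S.line_of_normalizer hu hn)
    refine ⟨c, hc, c⁻¹ * u, ⟨S.P.mul_mem (S.P.inv_mem (hN hc.1)) hu, show (c⁻¹ * u) • S.b = S.b by
      rw [mul_smul, inv_smul_eq_iff]; exact hcb.symm⟩, (mul_inv_cancel_left c u).symm⟩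
  have hfour : 4 ≤ 2 ^ s := by
    obtain ⟨z, hz, w, hw, hzc, hwc, hz2, hw2, hz1, hw1, hzw⟩ := S.exists_central_two
    have hmem : ∀ p ∈ S.P, (∀ q ∈ S.P, Commute p q) → p * p = 1 → p ≠ 1 → p ∈ NT := by
      intro p hp hpc hp2 hp1
      obtain ⟨c, hc, τ, hτ, rfl⟩ := hdec p hp (S.normalizer_of_central hp hpc)
      have hτl : ∀ x : Ω, τ • x ∈ line G S.a x := by
        have := S.line_mul hp (hline _ (inv_mem hc))
          (S.line_of_one_fixed hp hp2 fun x hx => S.semireg hp hpc hp1 hx)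
        simpa using this
      rw [S.no_line hτ hτl, mul_one]
      exact hc
    have h3 : ({1, z, w} : Set G) ⊆ NT := by
      rintro x (rfl | rfl | rfl)
      exacts [one_mem _, hmem _ hz hzc hz2 hz1, hmem _ hw hwc hw2 hw1]
    have h4 := Set.ncard_le_ncard h3
    rw [hNT2, Set.ncard_eq_three.2 ⟨1, z, w, hz1.symm, hw1.symm, hzw, rfl⟩] at h4
    rcases Nat.lt_or_ge s 2 with h | h
    · interval_cases s
      all_goals simp at h4
    · exact Nat.pow_le_pow_right (n := 2) (by norm_num) h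
  refine ⟨⟨2 ^ s, NT, j, hjT, hj2, hj1, hjc, fun x hx => hLFx.subset hx, fun c hc => hN hc.1, hsq, ?_,
    fun c hc => hfree c hc.1, hline, hcomm, inf_le_right, hdec, ?_, hfour, hs, ?_⟩⟩
  · intro g hg c hc
    refine ⟨hNc g hg c hc.1, S.normalizer_of_mem ?_ ?_⟩
    · rw [mul_smul, mul_smul, inv_smul_eq_iff.2 hg.symm, S.P_fix c (hN hc.1), hg]; exact S.a_mem
    · have := (smul_mem_line g).2 (hline c hc (g⁻¹ • S.b))
      rwa [hg, smul_inv_smul, ← mul_smul, ← mul_smul] at this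
  · rw [← Nat.card_coe_set_eq] at hNT2; exact hNT2
  · rw [hr, hr3, ← pow_mul, mul_comm]

end Cfg

end CfsgLib.Recog.RankOneSuzuki.Sat
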