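import Cfsg.Agent.Recog.RankOneSuzuki.Sat.Central
import Cfsg.Agent.Invol.ThompsonTransfer

/-!
# Split rank one actions: the base intersection is trivial
-/

set_option autoImplicit false
set_option linter.unusedSectionVars false
set_option linter.style.haveILetI false

namespace CfsgLib.Recog.RankOneSuzuki.Sat

open Subgroup

variable {G Ω : Type*} [Group G] [MulAction G Ω] {S : Cfg G Ω}

namespace Data

variable [Finite G] [FaithfulSMul G Ω] [IsSimpleGroup G] (D : Data S)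
include D

/-- The points moved to from `b` by the second centre. -/
def ZB : Set Ω := {x | ∃ v ∈ D.Zh, v • S.b = x}

theorem Zh_inj {v w : G} (hv : v ∈ D.Zh) (hw : w ∈ D.Zh) (h : v • S.b = w • S.b) : v = w := by
  have hT : w⁻¹ * v ∈ S.T := ⟨S.P.mul_mem (S.P.inv_mem hw.1) hv.1,
    show (w⁻¹ * v) • S.b = S.b by rw [mul_smul, h, inv_smul_smul]⟩
  exact (inv_mul_eq_one.1 (D.Zh_T (mul_mem (inv_mem hw) hv) hT)).symm

theorem le_ncard_ZB : D.q * D.q ≤ D.ZB.ncard := by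
  haveI := S.finite_pts
  have hw : ∀ e : D.F, ∃ v ∈ D.Zh, dl D.j v = (e : G) := fun e => D.exists_dl e.2
  choose w hwZ hw using hw
  rw [← D.card_F, ← Nat.card_prod, ← Nat.card_coe_set_eq]
  refine Nat.card_le_card_of_injective (fun p : D.F × D.F =>
    (⟨((p.1 : G) * w p.2) • S.b, _, mul_mem (D.F_le_Zh p.1.2) (hwZ p.2), rfl⟩ : D.ZB)) ?_
  rintro ⟨c, e⟩ ⟨c', e'⟩ h
  have h1 := D.Zh_inj (mul_mem (D.F_le_Zh c.2) (hwZ e)) (mul_mem (D.F_le_Zh c'.2) (hwZ e'))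
    (congrArg Subtype.val h)
  have hz : ∀ a : D.F, dl D.j a = 1 := fun a => dl_eq_one.2 (D.F_T a a.2 _ D.j_mem).symm
  have h2 := congrArg (dl D.j) h1
  simp only [D.dl_mul D.j_mem.1 (D.F_le_Zh c.2) (hwZ e), D.dl_mul D.j_mem.1 (D.F_le_Zh c'.2) (hwZ e'),
    hw, hz, one_mul] at h2
  obtain rfl : e = e' := Subtype.ext h2
  exact Prod.ext (Subtype.ext (mul_right_cancel h1)) rfl

theorem commute_of_dl {τ v : G} (hτ : τ ∈ S.T) (hv : v ∈ D.Zh) (hvF : v ∉ D.F) (h : dl τ v = 1)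
    {v' : G} (hv' : v' ∈ D.Zh) : Commute τ v' := by
  by_cases hvF' : v' ∈ D.F
  · exact (D.F_T _ hvF' _ hτ).symm
  obtain ⟨g, -, -, hgT, f, hf, rfl⟩ := D.key hv hvF hv' hvF'
  refine ((D.F_T _ hf _ hτ).symm).mul_right ?_
  exact ((hgT τ hτ).symm.mul_right (dl_eq_one.1 h)).mul_right (hgT τ hτ).symm.inv_right

/-- An element of the base intersection centralising the second centre is trivial. -/
theorem eq_one_of_centralises {τ : G} (hτ : τ ∈ S.T) (h : ∀ v ∈ D.Zh, Commute τ v) : τ = 1 := by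
  haveI := S.finite_pts
  by_contra h1
  obtain ⟨m, hm1, hm2⟩ := exists_sq_one (S.two_of_mem hτ.1) h1
  set t := τ ^ m with ht
  have htT : t ∈ S.T := pow_mem hτ m
  have hsub : D.ZB ∪ {S.a} ⊆ Fx t := by
    rintro x (⟨v, hv, rfl⟩ | rfl)
    · show t • v • S.b = v • S.b
      rw [← mul_smul, ((h v hv).pow_left m).eq, mul_smul, S.fix_L htT S.b_mem]
    · exact S.P_fix t htT.1
  have haZ : S.a ∉ D.ZB := fun ⟨v, hv, e⟩ => S.hne (smul_left_cancel v (e.trans (S.P_fix v hv.1).symm)).symm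
  have hf : D.q * D.q + 1 ≤ (Fx t : Set Ω).ncard := by
    refine le_trans ?_ (Set.ncard_le_ncard hsub)
    rw [Set.union_singleton, Set.ncard_insert_of_notMem haZ]
    exact Nat.add_le_add_right D.le_ncard_ZB 1
  have hcard := S.card_pts htT.1 hm2
  have hS0 : (fib t S.a).ncard ≠ 0 := by
    intro h0
    rw [h0, Nat.add_zero, mul_one, ← Set.ncard_univ] at hcard
    have h' := Set.eq_of_subset_of_ncard_le (Set.subset_univ (Fx t)) hcard.le
    exact hm1 (FaithfulSMul.eq_of_smul_eq_smul fun x : Ω => by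
      rw [one_smul]; exact Set.eq_univ_iff_forall.1 h' x)
  have hdvd : D.q ∣ (fib t S.a).ncard := by
    rw [← D.card_F]
    refine dvd_ncard_of_free D.F _ (fun c hc x hx => ?_) (fun c hc x hx e => D.F_free c hc x (fun hxa => hx.1 (by
      rw [hxa, S.P_fix t htT.1])) e)
    have e : t • c • x = c • t • x := by rw [← mul_smul, ← (D.F_T c hc t htT).eq, mul_smul]
    refine ⟨fun h' => hx.1 (smul_left_cancel c (e.symm.trans h')), ?_⟩
    rw [e, ← S.P_fix c (D.F_le hc), smul_mem_line]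
    exact hx.2
  rw [D.card_pts] at hcard
  nlinarith [Nat.le_of_dvd (Nat.pos_of_ne_zero hS0) hdvd, D.four_le]

theorem dl_inj {τ v : G} (hτ : τ ∈ S.T) (h1 : τ ≠ 1) (hv : v ∈ D.Zh) (h : dl τ v = 1) : v ∈ D.F :=
  by_contra fun hvF => h1 (D.eq_one_of_centralises hτ fun _ hv' => D.commute_of_dl hτ hv hvF h hv')

theorem T_sq {τ : G} (hτ : τ ∈ S.T) : τ * τ = 1 :=
  D.eq_one_of_centralises (mul_mem hτ hτ) fun v hv => dl_eq_one.1 (by
    rw [D.dl_mul_left hτ.1 hτ.1 hv, D.F_sq _ (D.dl_mem hτ.1 hv)])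

theorem line_ZB {t : G} (htT : t ∈ S.T) {x : Ω} (hx : x ∈ D.ZB) : t • x ∈ line G S.a x := by
  obtain ⟨v, hv, rfl⟩ := hx
  have hf := D.dl_mem (inv_mem htT.1) (inv_mem hv)
  have h1 : v⁻¹ • t • v • S.b ∈ S.L := by
    rw [← mul_smul, ← mul_smul, show v⁻¹ * t * v = t * dl t⁻¹ v⁻¹ by simp only [dl]; group, mul_smul]
    exact (S.normalizer_smul (le_normalizer htT)).2 ((S.normalizer_smul (D.F_norm hf)).2 S.b_mem)
  have h2 := (smul_mem_line v).2 (h1 : v⁻¹ • t • v • S.b ∈ line G S.a S.b)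
  rwa [smul_inv_smul, S.P_fix v hv.1] at h2

theorem ZB_moved {t : G} (htT : t ∈ S.T) (ht1 : t ≠ 1) {x : Ω} (hx : x ∈ D.ZB) (hxL : x ∉ S.L) :
    t • x ≠ x := by
  obtain ⟨v, hv, rfl⟩ := hx
  intro e
  have hf := D.dl_mem (inv_mem htT.1) (inv_mem hv)
  refine hxL ((S.normalizer_smul (D.F_norm ?_)).2 S.b_mem)
  refine D.dl_inj htT ht1 hv (dl_eq_one.2 ?_)
  have h1 : dl t⁻¹ v⁻¹ • S.b = S.b := by
    calc dl t⁻¹ v⁻¹ • S.b = t⁻¹ • v⁻¹ • t • v • S.b := by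
          rw [← mul_smul, ← mul_smul, ← mul_smul]; simp only [dl, inv_inv, mul_assoc]
      _ = S.b := by rw [e, inv_smul_smul, S.fix_L (inv_mem htT) S.b_mem]
  have h2 := D.F_free _ hf S.b S.hne.symm h1
  have h3 := dl_eq_one.1 h2
  exact (Commute.inv_inv_iff.1 h3)

/-- The elements moving an involution of `T` into the normaliser. -/
theorem mem_Y {t : G} (htT : t ∈ S.T) (ht1 : t ≠ 1) {u : G} (hu : u ∈ S.P)
    (hn : u⁻¹ * t * u ∈ normalizer (S.T : Set G)) : ∃ v ∈ D.Zh, ∃ τ ∈ S.T, u = v * τ := by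
  haveI := S.finite_pts
  have hl : t • u • S.b ∈ line G S.a (u • S.b) := by
    have h1 := (S.normalizer_smul hn).2 S.b_mem
    rw [mul_smul, mul_smul] at h1
    have h2 := (smul_mem_line u).2 (h1 : u⁻¹ • t • u • S.b ∈ line G S.a S.b)
    rwa [smul_inv_smul, S.P_fix u hu] at h2
  have hcard := S.card_pts htT.1 (D.T_sq htT)
  rw [D.card_pts] at hcard
  have hLF : S.L ⊆ Fx t := fun x hx => S.fix_L htT hx
  have hZf : D.ZB \ S.L ⊆ fib t S.a := fun x hx =>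
    (S.mem_fib_iff htT.1 (D.ZB_moved htT ht1 hx.1 hx.2)).2 (D.line_ZB htT hx.1)
  have haZ : S.a ∉ D.ZB := fun ⟨v, hv, e⟩ => S.hne (smul_left_cancel v (e.trans (S.P_fix v hv.1).symm)).symm
  have hZ : D.q * D.q ≤ (D.ZB \ S.L).ncard + D.q := by
    refine D.le_ncard_ZB.trans ?_
    have h1 : D.ZB ⊆ (D.ZB \ S.L) ∪ (S.L \ {S.a}) := fun x hx => by
      by_cases h : x ∈ S.L
      · exact Or.inr ⟨h, fun e => haZ (Set.mem_singleton_iff.1 e ▸ hx)⟩
      · exact Or.inl ⟨hx, h⟩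
    refine (Set.ncard_le_ncard h1).trans ((Set.ncard_union_le _ _).trans ?_)
    rw [Set.ncard_sdiff_singleton_of_mem S.a_mem, D.card_L, Nat.add_sub_cancel]
  have hf1 := Set.ncard_le_ncard hLF
  rw [D.card_L] at hf1
  have hS1 := Set.ncard_le_ncard hZf
  have h4 := D.four_le
  have hmul : (D.q + 1) * (1 + (fib t S.a).ncard) ≤ (Fx t : Set Ω).ncard * (1 + (fib t S.a).ncard) :=
    Nat.mul_le_mul_right _ hf1
  have hf2 : (Fx t : Set Ω).ncard = D.q + 1 := by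
    refine le_antisymm ?_ hf1
    by_contra hlt
    have : (D.q + 2) * (1 + (fib t S.a).ncard) ≤ (Fx t : Set Ω).ncard * (1 + (fib t S.a).ncard) :=
      Nat.mul_le_mul_right _ (by omega)
    nlinarith
  rw [hf2] at hcard
  have hLeq : S.L = Fx t := Set.eq_of_subset_of_ncard_le hLF (by rw [D.card_L, hf2])
  have hZeq : D.ZB \ S.L = fib t S.a := Set.eq_of_subset_of_ncard_le hZf (by nlinarith)
  have hub : u • S.b ∈ D.ZB := by
    by_cases hmv : t • u • S.b = u • S.b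
    · have hL : u • S.b ∈ S.L := hLeq.symm.subset hmv
      obtain ⟨c, hc, hcb⟩ := D.exists_F_smul hL fun e => S.hne (smul_left_cancel u (e.trans (S.P_fix u hu).symm)).symm
      exact ⟨c, D.F_le_Zh hc, hcb⟩
    · exact (hZeq.symm.subset ((S.mem_fib_iff htT.1 hmv).2 hl)).1
  obtain ⟨v, hv, hvb⟩ := hub
  exact ⟨v, hv, v⁻¹ * u, ⟨S.P.mul_mem (S.P.inv_mem hv.1) hu,
    show (v⁻¹ * u) • S.b = S.b by rw [mul_smul, inv_smul_eq_iff, hvb]⟩, (mul_inv_cancel_left v u).symm⟩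

/-- The subgroup spanned by the second centre and `T`. -/
def Y : Subgroup G where
  carrier := {u | ∃ v ∈ D.Zh, ∃ τ ∈ S.T, u = v * τ}
  one_mem' := ⟨1, one_mem _, 1, one_mem _, (one_mul 1).symm⟩
  mul_mem' := by
    rintro _ _ ⟨v, hv, τ, hτ, rfl⟩ ⟨w, hw, σ, hσ, rfl⟩
    exact ⟨v * (τ * w * τ⁻¹), mul_mem hv (D.Zh_conj (S.P_fix τ hτ.1) hw), τ * σ, mul_mem hτ hσ, by group⟩
  inv_mem' := by
    rintro _ ⟨v, hv, τ, hτ, rfl⟩
    exact ⟨τ⁻¹ * v⁻¹ * τ⁻¹⁻¹, D.Zh_conj (S.P_fix _ (inv_mem hτ.1)) (inv_mem hv), τ⁻¹, inv_mem hτ, by group⟩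

theorem ncard_ZB_le : D.ZB.ncard ≤ D.q * D.q * D.q - 1 := by
  haveI := S.finite_pts
  have hsub : D.ZB ⊆ fib D.j S.a ∪ S.L := fun x hx => by
    by_cases h : x ∈ S.L
    · exact Or.inr h
    · exact Or.inl ((S.mem_fib_iff D.j_mem.1 (D.ZB_moved D.j_mem D.j_ne hx h)).2 (D.line_ZB D.j_mem hx))
  refine (Set.ncard_le_ncard hsub).trans ((Set.ncard_union_le _ _).trans ?_)
  have hcard := S.card_pts D.j_mem.1 D.j_sq
  have hFx : (Fx D.j : Set Ω) = S.L :=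
    Set.Subset.antisymm (fun x hx => D.j_fix x hx) fun x hx => S.fix_L D.j_mem hx
  rw [hFx, D.card_L, D.card_pts] at hcard
  rw [D.card_L]
  have h4 := D.four_le
  have h3 : D.q ^ 3 = D.q * D.q * D.q := by ring
  rw [h3] at hcard
  refine Nat.le_sub_of_add_le ?_
  nlinarith

theorem exists_mover : ∃ u ∈ S.P, u ∉ D.Y ∧ ∀ y ∈ D.Y, u⁻¹ * y * u ∈ D.Y := by
  haveI : Fact (Nat.Prime 2) := ⟨Nat.prime_two⟩
  haveI := S.pP.isNilpotent
  haveI := S.finite_pts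
  have hY : D.Y ≤ S.P := by
    rintro _ ⟨v, hv, τ, hτ, rfl⟩; exact mul_mem hv.1 hτ.1
  have hlt : D.Y.subgroupOf S.P < ⊤ := by
    rw [lt_top_iff_ne_top]
    intro e
    have hall : ({S.a}ᶜ : Set Ω) ⊆ D.ZB := fun x hx => by
      obtain ⟨u, hu, rfl⟩ := S.P_trans hx
      obtain ⟨v, hv, τ, hτ, huv⟩ := (e ▸ Subgroup.mem_top _ : (⟨u, hu⟩ : S.P) ∈ D.Y.subgroupOf S.P)
      refine ⟨v, hv, ?_⟩
      rw [show u = v * τ from huv, mul_smul, S.fix_L hτ S.b_mem]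
    have h1 := (Set.ncard_le_ncard hall).trans D.ncard_ZB_le
    rw [Set.ncard_compl, Set.ncard_singleton, D.card_pts] at h1
    have : 0 < D.q := by have := D.four_le; omega
    have h3 : D.q ^ 3 = D.q * D.q * D.q := by ring
    have : 0 < D.q * D.q * D.q := by positivity
    omega
  obtain ⟨x, hx, hxY⟩ := SetLike.exists_of_lt (Group.normalizerCondition_of_isNilpotent _ hlt)
  refine ⟨x, x.2, hxY, fun y hy => ?_⟩
  have := (mem_normalizer_iff.1 (inv_mem hx) ⟨y, hY hy⟩).1 hy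
  simpa [mem_subgroupOf] using this

theorem exists_split_conj {u : G} (hu : u ∈ S.P) (huY : u ∉ D.Y) (hun : ∀ y ∈ D.Y, u⁻¹ * y * u ∈ D.Y)
    {t : G} (ht : t ∈ S.T) (ht1 : t ≠ 1) :
    ∃ v ∈ D.Zh, v ∉ D.F ∧ ∃ σ ∈ S.T, σ ≠ 1 ∧ u⁻¹ * t * u = v * σ ∧ dl σ v = v⁻¹ * v⁻¹ := by
  obtain ⟨v, hv, σ, hσ, e⟩ := hun t ⟨1, one_mem _, t, ht, (one_mul t).symm⟩
  refine ⟨v, hv, fun hvF => huY ?_, σ, hσ, fun h1 => ht1 ?_, e, ?_⟩
  · exact D.mem_Y ht ht1 hu (e ▸ mul_mem (D.F_norm hvF) (le_normalizer hσ))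
  · refine D.Zh_T ?_ ht
    have h := D.Zh_conj (S.P_fix u hu) hv
    rwa [show v = u⁻¹ * t * u by rw [e, h1, mul_one], show u * (u⁻¹ * t * u) * u⁻¹ = t by group] at h
  · have h2 : v * σ * (v * σ) = 1 := by
      rw [← e, show u⁻¹ * t * u * (u⁻¹ * t * u) = u⁻¹ * (t * t) * u by group, D.T_sq ht]; group
    have hσi : σ⁻¹ = σ := inv_eq_of_mul_eq_one_right (D.T_sq hσ)
    have h3 : σ * v * σ = v⁻¹ := eq_inv_of_mul_eq_one_right (by simpa [mul_assoc] using h2)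
    rw [dl, hσi, h3]

theorem dl_square {v σ : G} (hv : v ∈ D.Zh) (hvF : v ∉ D.F) (hσ : σ ∈ S.T) (hs : dl σ v = v⁻¹ * v⁻¹)
    {v' : G} (hv' : v' ∈ D.Zh) : dl σ v' = v'⁻¹ * v'⁻¹ := by
  by_cases hvF' : v' ∈ D.F
  · rw [dl_eq_one.2 (D.F_T v' hvF' σ hσ).symm, ← mul_inv_rev, D.F_sq v' hvF', inv_one]
  obtain ⟨g, hga, -, hgT, f, hf, rfl⟩ := D.key hv hvF hv' hvF'
  have hgv := D.Zh_conj hga hv
  have hfc : Commute f (g * v * g⁻¹) := D.F_central hf hgv.1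
  rw [D.dl_mul hσ.1 (D.F_le_Zh hf) hgv, dl_eq_one.2 (D.F_T f hf σ hσ).symm, one_mul, dl_conj g (hgT σ hσ), hs,
    ← mul_inv_rev, ← mul_inv_rev, show f * (g * v * g⁻¹) * (f * (g * v * g⁻¹)) = f * f * (g * v * g⁻¹ * (g * v * g⁻¹)) by
      rw [mul_assoc, ← mul_assoc (g * v * g⁻¹) f, ← hfc.eq]; group, D.F_sq f hf]
  group

theorem T_two {u : G} (hu : u ∈ S.P) (huY : u ∉ D.Y) (hun : ∀ y ∈ D.Y, u⁻¹ * y * u ∈ D.Y)
    {t : G} (ht : t ∈ S.T) (ht1 : t ≠ 1) : t = D.j := by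
  obtain ⟨v, hv, hvF, σ, hσ, -, he, hs⟩ := D.exists_split_conj hu huY hun ht ht1
  obtain ⟨v', hv', hvF', σ', hσ', -, he', hs'⟩ := D.exists_split_conj hu huY hun D.j_mem D.j_ne
  have h1 : σ * σ' = 1 := D.eq_one_of_centralises (mul_mem hσ hσ') fun x hx => dl_eq_one.1 (by
    rw [D.dl_mul_left hσ.1 hσ'.1 hx, D.dl_square hv' hvF' hσ' hs' hx, D.dl_square hv hvF hσ hs hx]
    have := D.F_sq _ (D.dl_mem hσ.1 hx)
    rwa [D.dl_square hv hvF hσ hs hx] at this)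
  have h2 : σ' = σ := by
    rw [← inv_eq_of_mul_eq_one_right h1, inv_eq_of_mul_eq_one_right (D.T_sq hσ)]
  have h3 : t * D.j⁻¹ = u * (v * v'⁻¹) * u⁻¹ := by
    calc t * D.j⁻¹ = u * ((u⁻¹ * t * u) * (u⁻¹ * D.j * u)⁻¹) * u⁻¹ := by group
      _ = u * (v * v'⁻¹) * u⁻¹ := by rw [he, he', h2]; group
  have h4 : t * D.j⁻¹ = 1 :=
    D.Zh_T (h3 ▸ D.Zh_conj (S.P_fix u hu) (mul_mem hv (inv_mem hv'))) (mul_mem ht (inv_mem D.j_mem))
  exact mul_inv_eq_one.1 h4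

theorem T_eq {t : G} (ht : t ∈ S.T) : t = 1 ∨ t = D.j := by
  rw [or_iff_not_imp_left]
  obtain ⟨u, hu, huY, hun⟩ := D.exists_mover
  exact D.T_two hu huY hun ht

/-- Every conjugate of `j` under `P` lies in its coset of the second centre. -/
theorem conj_j {p : G} (hp : p ∈ S.P) : ∃ v ∈ D.Zh, p⁻¹ * D.j * p = v * D.j := by
  classical
  obtain ⟨u, hu, huY, hun⟩ := D.exists_mover
  obtain ⟨v₁, hv₁, hvF₁, σ, hσ, hσ1, he, -⟩ := D.exists_split_conj hu huY hun D.j_mem D.j_ne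
  rcases D.T_eq hσ with rfl | rfl
  · exact absurd rfl hσ1
  have hsmall : ∀ f ∈ D.F, ∃ e ∈ D.Zh, e⁻¹ * D.j * e = f * D.j := by
    intro f hf
    obtain ⟨e, he, hef⟩ := D.exists_dl hf
    refine ⟨e, he, ?_⟩
    have h1 : e⁻¹ * dl D.j e * e = f := by
      rw [hef, mul_assoc, (D.F_central hf he.1).eq, inv_mul_cancel_left]
    rw [← h1]
    simp only [dl, inv_eq_of_mul_eq_one_right D.j_sq]
    simp only [← mul_assoc, inv_mul_cancel_right]
    rw [mul_assoc _ D.j D.j, D.j_sq, mul_one]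
  have hall : ∀ v : D.Zh, ∃ w ∈ S.P, w⁻¹ * D.j * w = (v : G) * D.j := by
    intro v
    by_cases hvF : (v : G) ∈ D.F
    · obtain ⟨e, he, h⟩ := hsmall _ hvF
      exact ⟨e, he.1, h⟩
    obtain ⟨g, hga, -, hgT, f, hf, hv⟩ := D.key hv₁ hvF₁ v.2 hvF
    obtain ⟨e, hee, hef⟩ := hsmall f hf
    have hgu := S.P_conj hga hu
    refine ⟨e * (g * u * g⁻¹), mul_mem hee.1 hgu, ?_⟩
    have hgj := (hgT _ D.j_mem).eq
    calc (e * (g * u * g⁻¹))⁻¹ * D.j * (e * (g * u * g⁻¹))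
        = (g * u * g⁻¹)⁻¹ * (e⁻¹ * D.j * e) * (g * u * g⁻¹) := by group
      _ = (g * u * g⁻¹)⁻¹ * f * D.j * (g * u * g⁻¹) := by rw [hef]; group
      _ = f * (g * u * g⁻¹)⁻¹ * D.j * (g * u * g⁻¹) := by rw [(D.F_central hf (inv_mem hgu)).eq]
      _ = f * (g * u⁻¹ * (g⁻¹ * D.j) * g * u * g⁻¹) := by group
      _ = f * (g * u⁻¹ * (D.j * g⁻¹) * g * u * g⁻¹) := by rw [((hgT _ D.j_mem).inv_left).eq]
      _ = f * (g * (u⁻¹ * D.j * u) * g⁻¹) := by group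
      _ = f * (g * v₁ * g⁻¹) * D.j := by
        rw [he, mul_assoc f, show g * (v₁ * D.j) * g⁻¹ = g * v₁ * (D.j * g⁻¹) by group,
          ← ((hgT _ D.j_mem).inv_left).eq]; group
      _ = (v : G) * D.j := by rw [← hv]
  choose w hwP hw using hall
  haveI := S.finite_pts
  let A : Type _ := (D.F × S.T) × D.Zh
  let φ : A → S.P := fun x => ⟨(x.1.1 : G) * x.1.2 * w x.2, mul_mem (mul_mem (D.F_le x.1.1.2) x.1.2.2.1) (hwP x.2)⟩
  have hconj : ∀ x : A, (φ x : G)⁻¹ * D.j * φ x = (x.2 : G) * D.j := by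
    intro x
    have hc : Commute D.j ((x.1.1 : G) * x.1.2) :=
      ((D.F_T _ x.1.1.2 _ D.j_mem).symm).mul_right (D.j_comm _ x.1.2.2)
    rw [← hw x.2]
    show ((x.1.1 : G) * x.1.2 * w x.2)⁻¹ * D.j * (x.1.1 * x.1.2 * w x.2) = _
    calc ((x.1.1 : G) * x.1.2 * w x.2)⁻¹ * D.j * (x.1.1 * x.1.2 * w x.2)
        = (w x.2)⁻¹ * (((x.1.1 : G) * x.1.2)⁻¹ * (D.j * (x.1.1 * x.1.2))) * w x.2 := by group
      _ = (w x.2)⁻¹ * D.j * w x.2 := by rw [hc.eq, inv_mul_cancel_left]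
  have hinj : Function.Injective φ := by
    rintro ⟨⟨c, τ⟩, v⟩ ⟨⟨c', τ'⟩, v'⟩ h
    have hv := hconj ⟨⟨c, τ⟩, v⟩
    rw [h, hconj] at hv
    obtain rfl : v' = v := Subtype.ext (mul_right_cancel hv)
    have h1 : (c : G) * τ = c' * τ' := mul_right_cancel (congrArg Subtype.val h)
    obtain rfl : c = c' := Subtype.ext (by
      have hT : (c' : G)⁻¹ * c ∈ S.T := by
        rw [show (c' : G)⁻¹ * c = τ' * (τ : G)⁻¹ by
          rw [eq_mul_inv_iff_mul_eq, mul_assoc, h1, inv_mul_cancel_left]]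
        exact mul_mem τ'.2 (inv_mem τ.2)
      exact (inv_mul_eq_one.1 (D.Zh_T (mul_mem (inv_mem (D.F_le_Zh c'.2)) (D.F_le_Zh c.2)) hT)).symm)
    obtain rfl : τ = τ' := Subtype.ext (mul_left_cancel h1)
    rfl
  have hcardP : Nat.card S.P ≤ Nat.card A := by
    have hT2 : 2 ≤ Nat.card S.T := by
      haveI : Nontrivial S.T := ⟨⟨⟨D.j, D.j_mem⟩, 1, fun e => D.j_ne (congrArg Subtype.val e)⟩⟩
      exact Finite.one_lt_card
    have hZ : D.q * D.q ≤ Nat.card D.Zh := by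
      refine D.le_ncard_ZB.trans ?_
      rw [← Nat.card_coe_set_eq]
      exact Nat.card_le_card_of_surjective (fun v : D.Zh => (⟨(v : G) • S.b, v, v.2, rfl⟩ : D.ZB))
        fun ⟨x, v, hv, e⟩ => ⟨⟨v, hv⟩, Subtype.ext e⟩
    have hw2 : ∀ x : ({S.a}ᶜ : Set Ω), ∃ q ∈ S.P, q • S.b = (x : Ω) := fun x => S.P_trans x.2
    choose r hrP hr using hw2
    have hbound : Nat.card S.P ≤ ({S.a}ᶜ : Set Ω).ncard * Nat.card S.T := by
      rw [← Nat.card_coe_set_eq, ← Nat.card_prod]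
      let x : S.P → ({S.a}ᶜ : Set Ω) := fun q => ⟨(q : G) • S.b, fun e =>
        S.hne (smul_left_cancel (q : G) ((Set.mem_singleton_iff.1 e).trans (S.P_fix q q.2).symm)).symm⟩
      refine Nat.card_le_card_of_injective (fun q : S.P => (x q, (⟨(r (x q))⁻¹ * q,
        S.P.mul_mem (S.P.inv_mem (hrP _)) q.2, show ((r (x q))⁻¹ * (q : G)) • S.b = S.b by
          rw [mul_smul, inv_smul_eq_iff, hr]⟩ : S.T))) ?_
      intro q q' h
      simp only [Prod.mk.injEq] at h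
      obtain ⟨h1, h2⟩ := h
      have h3 := congrArg Subtype.val h2
      simp only [h1] at h3
      exact Subtype.ext (mul_left_cancel h3)
    rw [Set.ncard_compl, Set.ncard_singleton, D.card_pts, Nat.add_sub_cancel] at hbound
    refine hbound.trans ?_
    simp only [A, Nat.card_prod, D.card_F]
    calc D.q ^ 3 * Nat.card S.T = D.q * Nat.card S.T * (D.q * D.q) := by ring
      _ ≤ _ := Nat.mul_le_mul_left _ hZ
  obtain ⟨x, hx⟩ := (hinj.bijective_of_nat_card_le hcardP).2 ⟨p, hp⟩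
  exact ⟨x.2, x.2.2, (congrArg (fun q : S.P => (q : G)⁻¹ * D.j * q) hx).symm.trans (hconj x)⟩

theorem sq_mem {u : G} (hu : u ∈ S.P) : u * u ∈ D.Zh := by
  obtain ⟨v, hv, he⟩ := D.conj_j hu
  have hji : D.j⁻¹ = D.j := inv_eq_of_mul_eq_one_right D.j_sq
  have hv2 : v * v ∈ D.F := by
    have h2 : v * D.j * (v * D.j) = 1 := by
      rw [← he, show u⁻¹ * D.j * u * (u⁻¹ * D.j * u) = u⁻¹ * (D.j * D.j) * u by group, D.j_sq]; group
    have h3 : D.j * v * D.j = v⁻¹ := eq_inv_of_mul_eq_one_right (by simpa [mul_assoc] using h2)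
    have := inv_mem (D.dl_mem D.j_mem.1 hv)
    rwa [dl, hji, h3, ← mul_inv_rev, inv_inv] at this
  set f := v⁻¹ * u⁻¹ * v⁻¹⁻¹ * u⁻¹⁻¹ with hf
  have hfF : f ∈ D.F := (inv_mem hv).2 _ (inv_mem hu)
  have huv : u⁻¹ * v * u = v * f := by rw [hf]; group
  have h4 : (u * u)⁻¹ * D.j * (u * u) = f * (v * v) * D.j := by
    calc (u * u)⁻¹ * D.j * (u * u) = u⁻¹ * (u⁻¹ * D.j * u) * u := by group
      _ = u⁻¹ * (v * D.j) * u := by rw [he]
      _ = (u⁻¹ * v * u) * (u⁻¹ * D.j * u) := by group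
      _ = v * f * (v * D.j) := by rw [huv, he]
      _ = f * (v * v) * D.j := by rw [← (D.F_central hfF hv.1).eq]; group
  obtain ⟨v', hv', τ, hτ, e⟩ := D.mem_Y D.j_mem D.j_ne (mul_mem hu hu)
    (h4 ▸ mul_mem (D.F_norm (mul_mem hfF hv2)) (le_normalizer D.j_mem))
  rcases D.T_eq hτ with rfl | rfl
  · rw [e, mul_one]; exact hv'
  exfalso
  set f' := v'⁻¹ * u⁻¹ * v'⁻¹⁻¹ * u⁻¹⁻¹ with hf'
  have hfF' : f' ∈ D.F := (inv_mem hv').2 _ (inv_mem hu)
  have h5 : v' * f' * (v * D.j) = v' * D.j := by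
    calc v' * f' * (v * D.j) = (u⁻¹ * v' * u) * (u⁻¹ * D.j * u) := by rw [he, hf']; group
      _ = u⁻¹ * (v' * D.j) * u := by group
      _ = u⁻¹ * (u * u) * u := by rw [e]
      _ = u * u := by group
      _ = v' * D.j := e
  have hvF : v ∈ D.F := by
    have h6 : f' * v = 1 := by
      rw [mul_assoc, ← mul_assoc f' v] at h5
      exact mul_right_cancel ((mul_left_cancel h5).trans (one_mul D.j).symm)
    rw [eq_inv_of_mul_eq_one_right h6]
    exact inv_mem hfF'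
  obtain ⟨v'', hv'', τ', hτ', e'⟩ := D.mem_Y D.j_mem D.j_ne hu (he ▸ mul_mem (D.F_norm hvF) (le_normalizer D.j_mem))
  have h7 : u * u = v'' * (τ' * v'' * τ'⁻¹) := by
    rw [inv_eq_of_mul_eq_one_right (D.T_sq hτ'), e']
    simp only [mul_assoc]
  have h8 : D.j ∈ D.Zh := by
    have h9 : v' * D.j ∈ D.Zh := by
      rw [← e, h7]; exact mul_mem hv'' (D.Zh_conj (S.P_fix τ' hτ'.1) hv'')
    have := mul_mem (inv_mem hv') h9
    rwa [inv_mul_cancel_left] at this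
  exact D.j_ne (D.Zh_T h8 D.j_mem)

theorem exists_index_two : ∃ M : Subgroup G, M ≤ S.P ∧ M.relIndex S.P = 2 ∧ D.j ∉ M ∧
    ∀ u ∈ S.P, ∀ m ∈ M, u * m * u⁻¹ ∈ M := by
  classical
  obtain ⟨M, hM, hmax⟩ := Set.Finite.exists_maximal
    (Set.toFinite {M : Subgroup G | D.Zh ≤ M ∧ M ≤ S.P ∧ D.j ∉ M})
    ⟨D.Zh, le_rfl, D.Zh_le, fun h => D.j_ne (D.Zh_T h D.j_mem)⟩
  obtain ⟨hZM, hMP, hjM⟩ := hM
  have hn : ∀ u ∈ S.P, ∀ m ∈ M, u * m * u⁻¹ ∈ M := by
    intro u hu m hm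
    have hmP := hMP hm
    have hc := D.Zh_conj (S.P_fix _ (inv_mem hmP)) (D.sq_mem (inv_mem hu))
    rw [inv_inv] at hc
    have hk : u * m * u⁻¹ * m⁻¹ ∈ M := by
      rw [show u * m * u⁻¹ * m⁻¹ = (u * m) * (u * m) * (m⁻¹ * (u⁻¹ * u⁻¹) * m) * (m⁻¹ * m⁻¹) by group]
      exact mul_mem (mul_mem (hZM (D.sq_mem (mul_mem hu hmP))) (hZM hc)) (mul_mem (inv_mem hm) (inv_mem hm))
    have := mul_mem hk hm
    rwa [inv_mul_cancel_right] at this
  have key : ∀ x ∈ S.P, x ∉ M → D.j * x ∈ M := by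
    intro x hx hxM
    have hx2 : x * x ∈ M := hZM (D.sq_mem hx)
    have hxc : ∀ {z : G}, z ∈ M → x⁻¹ * z * x ∈ M := fun {z} hz => by
      simpa using hn _ (inv_mem hx) z hz
    let M' : Subgroup G :=
      { carrier := {y | y ∈ M ∨ y * x ∈ M}
        one_mem' := Or.inl (one_mem _)
        mul_mem' := by
          rintro y z (hy | hy) (hz | hz)
          · exact Or.inl (mul_mem hy hz)
          · exact Or.inr (by rw [mul_assoc]; exact mul_mem hy hz)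
          · refine Or.inr ?_
            rw [show y * z * x = y * x * (x⁻¹ * z * x) by group]
            exact mul_mem hy (hxc hz)
          · refine Or.inl ?_
            rw [show y * z = y * x * (x⁻¹ * (z * x) * x) * (x * x)⁻¹ by group]
            exact mul_mem (mul_mem hy (hxc hz)) (inv_mem hx2)
        inv_mem' := by
          rintro y (hy | hy)
          · exact Or.inl (inv_mem hy)
          · refine Or.inr ?_
            rw [show y⁻¹ * x = x * (y * x)⁻¹ * x⁻¹ * (x * x) by group]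
            exact mul_mem (hn x hx _ (inv_mem hy)) hx2 }
    have hxM' : x ∈ M' := Or.inr hx2
    by_contra hjx
    have hM'P : M' ≤ S.P := by
      rintro y (hy | hy)
      · exact hMP hy
      · have := mul_mem (hMP hy) (inv_mem hx)
        rwa [mul_inv_cancel_right] at this
    have hle : M ≤ M' := fun y hy => Or.inl hy
    exact hxM (hmax ⟨hZM.trans hle, hM'P, fun h => h.elim hjM hjx⟩ hle hxM')
  refine ⟨M, hMP, ?_, hjM, hn⟩
  rw [Subgroup.relIndex, Subgroup.index_eq_two_iff']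
  refine ⟨⟨D.j, D.j_mem.1⟩, fun y => ?_⟩
  simp only [mem_subgroupOf, Subgroup.coe_mul]
  by_cases hy : (y : G) ∈ M
  · refine Or.inr ⟨hy, fun h => hjM ?_⟩
    have := mul_mem h (inv_mem hy)
    rwa [mul_inv_cancel_right] at this
  · exact Or.inl ⟨key y y.2 hy, hy⟩

theorem odd_index : Odd S.P.index := by
  haveI := S.finite_pts
  set St := MulAction.stabilizer G S.a with hSt
  have hle : S.P ≤ St := fun g hg => S.P_fix g hg
  rw [← relIndex_mul_index hle, Nat.odd_mul]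
  refine ⟨?_, ?_⟩
  · haveI : (S.P.subgroupOf St).Normal := ⟨fun x hx g => S.P_conj g.2 hx⟩
    rw [Subgroup.relIndex, Subgroup.index, ← Nat.not_even_iff_odd, even_iff_two_dvd]
    intro h2
    haveI : Fact (Nat.Prime 2) := ⟨Nat.prime_two⟩
    obtain ⟨x, hx⟩ := exists_prime_orderOf_dvd_card' (G := St ⧸ S.P.subgroupOf St) 2 h2
    obtain ⟨y, rfl⟩ := QuotientGroup.mk_surjective x
    have hy2 : (y : G) * y ∈ S.P := by
      have h1 := pow_orderOf_eq_one (y : St ⧸ S.P.subgroupOf St)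
      rw [hx, pow_two, ← QuotientGroup.mk_mul, QuotientGroup.eq_one_iff] at h1
      exact h1
    obtain ⟨k, hk⟩ := S.two_of_mem hy2
    have hy : (y : G) ∈ S.P := S.P_mem _ y.2 ⟨k + 1, by rw [pow_succ', pow_mul, pow_two, hk]⟩
    rw [(QuotientGroup.eq_one_iff y).2 hy, orderOf_one] at hx
    omega
  · rw [hSt, MulAction.index_stabilizer,
      show MulAction.orbit G S.a = Set.univ from Set.eq_univ_iff_forall.2 fun x => S.exists_smul x, Set.ncard_univ]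
    exact S.n_odd

theorem false : False := by
  haveI := S.finite_pts
  obtain ⟨M, hMP, hM2, hjM, hMn⟩ := D.exists_index_two
  rcases CfsgLib.ThompsonTransfer.thompson_transfer S.P M D.odd_index hM2 D.j_sq with
    ⟨N, hN, hN2, -⟩ | ⟨g, hg⟩
  · rcases hN.eq_bot_or_eq_top with e | e
    · rw [e, Subgroup.index_bot] at hN2
      have h1 : Nat.card Ω ≤ Nat.card G := Nat.card_le_card_of_surjective (fun g : G => g • S.a) S.exists_smul
      rw [D.card_pts, hN2] at h1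
      have h2 := Nat.pow_le_pow_left D.four_le 3
      omega
    · rw [e, Subgroup.index_top] at hN2
      exact absurd hN2 (by norm_num)
  have hfix : D.j • g⁻¹ • S.a = g⁻¹ • S.a := by
    have h := S.P_fix _ (hMP hg)
    rw [mul_smul, mul_smul] at h
    exact eq_inv_smul_iff.2 h
  obtain ⟨c, hc, hca⟩ := S.exists_centralizer D.j_mem.1 hfix
  have hgc : (g * c) • S.a = S.a := by rw [mul_smul, hca, smul_inv_smul]
  obtain ⟨u, hu, h, hh, he⟩ := S.decompP hgc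
  have hconj : g * D.j * g⁻¹ = g * c * D.j * (g * c)⁻¹ := by
    rw [mul_assoc g c, hc.eq, mul_inv_rev]; group
  have hhj : h * D.j * h⁻¹ = D.j := by
    obtain ⟨hha, hhb⟩ := S.H_fix h hh
    refine (D.T_eq (S.mem_T.2 ?_)).resolve_left fun e => D.j_ne (conj_eq_one_iff.1 e)
    have := conj_mem_TS h (S.mem_T.1 D.j_mem)
    rwa [hha, hhb] at this
  rw [hconj, he, show u * h * D.j * (u * h)⁻¹ = u * (h * D.j * h⁻¹) * u⁻¹ by group, hhj] at hg
  have := hMn _ (inv_mem hu) _ hg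
  rw [inv_inv, ← mul_assoc, ← mul_assoc, inv_mul_cancel, one_mul, inv_mul_cancel_right] at this
  exact hjM this

end Data

/-- The two-elements fixing two points are trivial. -/
theorem Cfg.false [Finite G] [FaithfulSMul G Ω] [IsSimpleGroup G] (S : Cfg G Ω) : False :=
  let ⟨D⟩ := S.exists_data
  D.false

end CfsgLib.Recog.RankOneSuzuki.Sat
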