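import Cfsg.Agent.Recog.RankOneSuzuki.Sat.Base
import Cfsg.Agent.Solvable.CoprimeAbelian
import Cfsg.Agent.Bender.CoreFinish

/-!
# Split rank one actions: the odd part of `U` is trivial, and the shape of the lines
-/

set_option autoImplicit false
set_option linter.unusedSectionVars false
set_option linter.style.haveILetI false

namespace CfsgLib.Recog.RankOneSuzuki.Sat

open Subgroup

/-- An involution of a finite set of odd size fixes a point. -/
theorem exists_fixed {α : Type*} [Finite α] (f : α → α) (hf : Function.Involutive f)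
    (hodd : Odd (Nat.card α)) : ∃ x, f x = x := by
  classical
  haveI : Fintype α := Fintype.ofFinite α
  haveI : Fact (Nat.Prime 2) := ⟨Nat.prime_two⟩
  rw [Nat.card_eq_fintype_card] at hodd
  exact Equiv.Perm.exists_fixed_point_of_prime (p := 2) (n := 1) (σ := hf.toPerm)
    (fun h => Nat.not_even_iff_odd.2 hodd (even_iff_two_dvd.2 h))
    (Equiv.ext fun x => by simp [pow_two, hf x])

/-- An involution of a finite set with one fixed point has odd size. -/
theorem odd_of_fixed {α : Type*} [Finite α] (f : α → α) (hf : Function.Involutive f) {a : α}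
    (ha : f a = a) (huniq : ∀ x, f x = x → x = a) : Odd (Nat.card α) := by
  classical
  haveI : Fintype α := Fintype.ofFinite α
  haveI : Fact (Nat.Prime 2) := ⟨Nat.prime_two⟩
  rw [Nat.card_eq_fintype_card, ← Nat.not_even_iff_odd, even_iff_two_dvd]
  intro h
  obtain ⟨b, hb, hne⟩ := Equiv.Perm.exists_fixed_point_of_prime' (p := 2) (n := 1) (σ := hf.toPerm) h
    (Equiv.ext fun x => by simp [pow_two, hf x]) (a := a) (by simpa using ha)
  exact hne (huniq b (by simpa using hb))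

/-- Two commuting involutions normalising an odd order subgroup and the three centralisers. -/
theorem le_of_four {M : Type*} [Group M] [Finite M] {K L : Subgroup M} (hK : Odd (Nat.card K)) {u v : M}
    (hu : u * u = 1) (hv : v * v = 1) (hu1 : u ≠ 1) (hv1 : v ≠ 1) (hne : u ≠ v) (hc : Commute u v)
    (hnu : u ∈ normalizer (K : Set M)) (hnv : v ∈ normalizer (K : Set M))
    (hfix : ∀ w y : M, (w = u ∨ w = v ∨ w = u * v) → y ∈ K → Commute w y → y ∈ L) : K ≤ L := by
  classical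
  haveI : Fintype M := Fintype.ofFinite M
  have huv : u * v = v * u := hc.eq
  have huv' : v * u = u * v := hc.eq.symm
  have hu' : ∀ z, u * (u * z) = z := fun z => by rw [← mul_assoc, hu, one_mul]
  have hv' : ∀ z, v * (v * z) = z := fun z => by rw [← mul_assoc, hv, one_mul]
  have hvu : ∀ z, v * (u * z) = u * (v * z) := fun z => by rw [← mul_assoc, huv', mul_assoc]
  let A : Subgroup M :=
    { carrier := {1, u, v, u * v}
      one_mem' := by simp
      mul_mem' := by
        rintro x y (rfl | rfl | rfl | rfl) (rfl | rfl | rfl | rfl) <;>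
          simp [mul_assoc, hu, hv, hu', hvu, huv']
      inv_mem' := by
        rintro x (rfl | rfl | rfl | rfl) <;>
          simp [inv_eq_of_mul_eq_one_right hu, inv_eq_of_mul_eq_one_right hv, mul_inv_rev, huv'] }
  have hexp : ∀ x ∈ A, x * x = 1 := by
    rintro x (rfl | rfl | rfl | rfl) <;> simp [mul_assoc, hu, hv, hvu]
  haveI : IsMulCommutative A := ⟨⟨fun x y => Subtype.ext (by
    rcases x with ⟨x, rfl | rfl | rfl | rfl⟩ <;> rcases y with ⟨y, rfl | rfl | rfl | rfl⟩ <;>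
      simp [mul_assoc, hu, hv, hu', hvu, huv'])⟩⟩
  have hcyc : ¬ IsCyclic A := by
    intro h
    have hsub : ({1, ⟨u, by simp [A]⟩, ⟨v, by simp [A]⟩} : Finset A) ⊆
        Finset.univ.filter fun x => x ^ 2 = 1 := fun x _ =>
      Finset.mem_filter.2 ⟨Finset.mem_univ _, by
        ext; simp [pow_two, hexp x x.2]⟩
    have h3 := (Finset.card_le_card hsub).trans (IsCyclic.card_pow_eq_one_le two_pos)
    have h1 : (1 : A) ≠ ⟨u, by simp [A]⟩ := fun e => hu1 (congrArg Subtype.val e).symm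
    have h2 : (1 : A) ≠ ⟨v, by simp [A]⟩ := fun e => hv1 (congrArg Subtype.val e).symm
    simp [h1, h2, hne] at h3
  have hA2 : IsPGroup 2 A := fun x => ⟨1, by ext; simp [pow_two, hexp x x.2]⟩
  have hcop : (Nat.card A).Coprime (Nat.card K) := by
    haveI : Fact (Nat.Prime 2) := ⟨Nat.prime_two⟩
    obtain ⟨k, hk⟩ := IsPGroup.iff_card.1 hA2
    rw [hk]
    exact (Nat.coprime_two_left.2 hK).pow_left k
  have hAK : A ≤ normalizer (K : Set M) := by
    rintro x (rfl | rfl | rfl | rfl)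
    exacts [one_mem _, hnu, hnv, mul_mem hnu hnv]
  rw [← CfsgLib.CoprimeAct.generated_by_centralizers hcyc hAK hcop]
  refine iSup₂_le ?_
  rintro w ⟨hw, hw1⟩ y ⟨hy, hy'⟩
  refine hfix w y ?_ hy (mem_centralizer_singleton_iff.1 hy').symm
  rcases hw with rfl | rfl | rfl | rfl
  exacts [absurd rfl hw1, .inl rfl, .inr (.inl rfl), .inr (.inr rfl)]

namespace Cfg

variable {G Ω : Type*} [Group G] [MulAction G Ω] (S : Cfg G Ω)
include S

variable [Finite G]

theorem finite_pts : Finite Ω := Finite.of_surjective (fun g : G => g • S.a) S.exists_smul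

/-- The base line. -/
def L : Set Ω := line G S.a S.b

theorem a_mem : S.a ∈ S.L := left_mem_line _ _

theorem b_mem : S.b ∈ S.L := right_mem_line _ _

theorem fix_L {g : G} (hg : g ∈ S.T) {x : Ω} (hx : x ∈ S.L) : g • x = x := hx g (S.mem_T.1 hg)

theorem normalizer_of_mem' {g : G} {c d : Ω} (hc : c ∈ S.L) (hd : d ∈ S.L) (hcd : c ≠ d)
    (hgc : g • c ∈ S.L) (hgd : g • d ∈ S.L) : g ∈ normalizer (S.T : Set G) :=
  S.normalizer_of_mem (S.smul_line_eq hc hd hcd hgc hgd _ S.a_mem) (S.smul_line_eq hc hd hcd hgc hgd _ S.b_mem)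

theorem normalizer_of_central {z : G} (hz : z ∈ S.P) (hzc : ∀ p ∈ S.P, Commute z p) :
    z ∈ normalizer (S.T : Set G) := by
  refine mem_normalizer_iff.2 fun h => ⟨fun hh => ?_, fun hh => ?_⟩
  · rwa [(hzc h hh.1).eq, mul_inv_cancel_right]
  · have hP : h ∈ S.P := by
      simpa [mul_assoc] using mul_mem (mul_mem (inv_mem hz) hh.1) hz
    rwa [(hzc h hP).eq, mul_inv_cancel_right] at hh

variable [FaithfulSMul G Ω] [IsSimpleGroup G]

/-- Lines have odd size. -/
theorem odd_line : Odd (Nat.card S.L) := by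
  haveI := S.finite_pts
  obtain ⟨z, hz, hzc, hz2, hz1⟩ := S.exists_central
  have hzn := S.normalizer_of_central hz hzc
  refine odd_of_fixed (fun x : S.L => ⟨z • (x : Ω), (S.normalizer_smul hzn).2 x.2⟩)
    (fun x => Subtype.ext (by simp [← mul_smul, hz2])) (a := ⟨S.a, S.a_mem⟩)
    (Subtype.ext (S.P_fix z hz)) fun x hx => Subtype.ext (S.semireg hz hzc hz1 (congrArg Subtype.val hx))

theorem odd_line' {x y : Ω} (h : x ≠ y) : Odd (Nat.card (line G x y)) := by
  obtain ⟨g, rfl, rfl⟩ := S.two h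
  rw [line_smul, Nat.card_image_of_injective (MulAction.injective g)]
  exact S.odd_line

/-! ### The odd part of `U` -/

/-- The odd part of `U`. -/
def R : Subgroup G := (Cfsg.oddCore S.U).map S.U.subtype

theorem odd_R : Odd (Nat.card S.R) := by
  rw [R, card_map_of_injective (subtype_injective _)]
  exact CfsgLib.LocalB.odd_card_oddCore

theorem R_le : S.R ≤ S.U := map_subtype_le _

theorem mem_R_of_odd {r : G} (hr : r ∈ S.U) (hodd : Odd (orderOf r)) : r ∈ S.R := by
  haveI := S.U_nil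
  refine ⟨⟨r, hr⟩, ?_, rfl⟩
  refine (CfsgLib.FGSA.le_of_prime_power_mem (A := zpowers (⟨r, hr⟩ : S.U))
    (M := Cfsg.oddCore S.U) fun p hp x hx hk => ?_) (mem_zpowers _)
  obtain ⟨k, hk⟩ := hk
  rcases Nat.eq_zero_or_pos k with rfl | hk0
  · rw [pow_zero, orderOf_eq_one_iff] at hk; rw [hk]; exact one_mem _
  haveI : Fact p.Prime := ⟨hp⟩
  have hp2 : p ≠ 2 := by
    rintro rfl
    have h1 : 2 ∣ orderOf x := hk ▸ dvd_pow_self 2 hk0.ne'
    have h2 : orderOf x ∣ orderOf (⟨r, hr⟩ : S.U) := orderOf_dvd_of_mem_zpowers hx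
    have h3 := h1.trans h2
    rw [Subgroup.orderOf_mk] at h3
    exact Nat.not_even_iff_odd.2 hodd (even_iff_two_dvd.2 h3)
  obtain ⟨Q, hQ⟩ := (IsPGroup.of_card (p := p) (n := k) (by rw [Nat.card_zpowers, hk]) :
    IsPGroup p (zpowers x)).exists_le_sylow
  haveI : (Q : Subgroup S.U).Normal := by
    apply Sylow.normal_of_normalizerCondition Group.normalizerCondition_of_isNilpotent
  refine CfsgLib.Bender.Core.le_oddCore inferInstance ?_ (hQ (mem_zpowers x))
  obtain ⟨j, hj⟩ := IsPGroup.iff_card.1 Q.isPGroup'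
  rw [hj]
  exact (hp.odd_of_ne_two hp2).pow

theorem conj_R {g : G} (hg : g • S.a = S.a) {r : G} (hr : r ∈ S.R) : g * r * g⁻¹ ∈ S.R :=
  S.mem_R_of_odd (S.U_normal g hg r (S.R_le hr)) (by
    rw [show g * r * g⁻¹ = MulAut.conj g r from rfl, MulEquiv.orderOf_eq]
    exact S.odd_R.of_dvd_nat (orderOf_mk r hr ▸ orderOf_dvd_natCard (⟨r, hr⟩ : S.R)))

theorem commute_R {p r : G} (hp : p ∈ S.P) (hr : r ∈ S.R) : Commute p r :=
  S.commute_P_odd hp (S.R_le hr)
    (S.odd_R.of_dvd_nat (orderOf_mk r hr ▸ orderOf_dvd_natCard (⟨r, hr⟩ : S.R)))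

/-- The odd part of `U` is trivial. -/
theorem R_eq_bot : S.R = ⊥ := by
  classical
  haveI := S.finite_pts
  set N : Subgroup G := normalizer (S.T : Set G) with hN
  let act : N →* Equiv.Perm S.L := MonoidHom.mk'
    (fun g => { toFun := fun x => ⟨(g : G) • (x : Ω), (S.normalizer_smul g.2).2 x.2⟩
                invFun := fun x => ⟨(g : G)⁻¹ • (x : Ω), (S.normalizer_smul (inv_mem g.2)).2 x.2⟩
                left_inv := fun x => Subtype.ext (inv_smul_smul _ _)
                right_inv := fun x => Subtype.ext (smul_inv_smul _ _) })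
    (fun g h => Equiv.ext fun x => Subtype.ext (mul_smul (g : G) (h : G) (x : Ω)))
  have hact : ∀ (g : N) (x : S.L), (act g x : Ω) = (g : G) • (x : Ω) := fun g x => rfl
  let M := act.range
  let pa : S.L := ⟨S.a, S.a_mem⟩
  let H : Subgroup M :=
    { carrier := {m | (m : Equiv.Perm S.L) pa = pa}
      one_mem' := rfl
      mul_mem' := fun {x y} hx hy => by
        show (x : Equiv.Perm S.L) ((y : Equiv.Perm S.L) pa) = pa
        rw [show (y : Equiv.Perm S.L) pa = pa from hy]; exact hx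
      inv_mem' := fun {x} hx => by
        show (x : Equiv.Perm S.L)⁻¹ pa = pa
        exact Equiv.symm_apply_eq _ |>.2 hx.symm }
  have hH : ∀ m : M, m ∈ H ↔ (m : Equiv.Perm S.L) pa = pa := fun m => Iff.rfl
  -- elements fixing two points of the line
  have two_pt : ∀ (g : N) (c : S.L), c ≠ pa → act g pa = pa → act g c = c → Odd (orderOf (act g)) := by
    intro g c hc h1 h2
    obtain ⟨k, m, hm, hkm⟩ := Nat.exists_eq_two_pow_mul_odd (orderOf_pos (g : G)).ne'
    refine hm.of_dvd_nat (orderOf_dvd_of_pow_eq_one (Equiv.ext fun x => Subtype.ext ?_))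
    have e1 : ((g : G) ^ m) • S.a = S.a := by
      have := congrArg Subtype.val h1
      rw [hact] at this
      exact MulAction.mem_stabilizer_iff.1 (pow_mem (MulAction.mem_stabilizer_iff.2 this) m)
    have e2 : ((g : G) ^ m) • (c : Ω) = c := by
      have := congrArg Subtype.val h2
      rw [hact] at this
      exact MulAction.mem_stabilizer_iff.1 (pow_mem (MulAction.mem_stabilizer_iff.2 this) m)
    have hT : (g : G) ^ m ∈ TS S.a S.b := by
      rw [← S.TS_eq S.hne S.a_mem c.2 (fun e => hc (Subtype.ext e.symm))]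
      exact ⟨⟨k, by rw [← pow_mul, mul_comm, ← hkm, pow_orderOf_eq_one]⟩, e1, e2⟩
    rw [← map_pow, hact]
    simpa using x.2 _ hT
  have hodd2 : ∀ m : M, m ∉ H → Odd (Nat.card ↥(H ⊓ H.map (MulAut.conj m).toMonoidHom)) := by
    intro m hm
    rw [← Nat.not_even_iff_odd, even_iff_two_dvd]
    intro h2
    obtain ⟨w, hw⟩ := exists_prime_orderOf_dvd_card' 2 h2
    obtain ⟨hw1, k, hk, hwk⟩ := w.2.1, w.2.2
    obtain ⟨g, hg⟩ := (w : M).2
    have hodd : Odd (orderOf (act g)) := by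
      refine two_pt g ((m : Equiv.Perm S.L) pa) hm (by rw [hg]; exact (hH _).1 w.2.1) ?_
      rw [hg, ← hwk]
      show ((m * k * m⁻¹ : M) : Equiv.Perm S.L) ((m : Equiv.Perm S.L) pa) = (m : Equiv.Perm S.L) pa
      simp [(hH _).1 hk]
    rw [hg, orderOf_coe, orderOf_coe, hw] at hodd
    exact Nat.not_even_iff_odd.2 hodd even_two
  obtain ⟨g₀, hg0a, hg0b⟩ := S.two S.hne.symm
  have hg₀ : g₀ ∈ N := S.normalizer_of_mem
    (show g₀ • S.a ∈ S.L by rw [hg0a]; exact S.b_mem) (show g₀ • S.b ∈ S.L by rw [hg0b]; exact S.a_mem)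
  have hHtop : H ≠ ⊤ := fun e => by
    have := (hH ⟨act ⟨g₀, hg₀⟩, _, rfl⟩).1 (e ▸ Subgroup.mem_top _)
    exact S.hne ((congrArg Subtype.val this).symm.trans hg0a)
  obtain ⟨z, hz, w, hw, hzc, hwc, hz2, hw2, hz1, hw1, hzw⟩ := S.exists_central_two
  have mk : ∀ {p : G}, p ∈ S.P → (∀ q ∈ S.P, Commute p q) → p * p = 1 → p ≠ 1 →
      ∃ m : M, m ∈ H ∧ m * m = 1 ∧ m ≠ 1 ∧ (∀ x : S.L, ((m : Equiv.Perm S.L) x : Ω) = p • (x : Ω)) := by
    intro p hp hpc hp2 hp1
    refine ⟨⟨act ⟨p, S.normalizer_of_central hp hpc⟩, _, rfl⟩, (hH _).2 (Subtype.ext (S.P_fix p hp)), ?_, ?_,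
      fun x => rfl⟩
    · ext x; simp [hact, ← mul_smul, hp2]
    · intro e
      have := congrArg (fun m : M => ((m : Equiv.Perm S.L) ⟨S.b, S.b_mem⟩ : Ω)) e
      simp [hact] at this
      exact S.hne (S.semireg hp hpc hp1 this).symm
  obtain ⟨mz, hzH, hmz2, hmz1, hmz⟩ := mk hz hzc hz2 hz1
  obtain ⟨mw, hwH, hmw2, hmw1, hmw⟩ := mk hw hwc hw2 hw1
  have hzwc : ∀ q ∈ S.P, Commute (z * w) q := fun q hq => (hzc q hq).mul_left (hwc q hq)
  have hzw1 : z * w ≠ 1 := fun e => hzw (by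
    rw [← inv_eq_of_mul_eq_one_right e, inv_eq_of_mul_eq_one_right hz2])
  have hmne : mz ≠ mw := fun e => by
    refine S.hne (S.semireg (mul_mem hz hw) hzwc hzw1 ?_).symm
    have h1 := hmw ⟨S.b, S.b_mem⟩
    rw [← e, hmz] at h1
    rw [mul_smul, ← h1, ← mul_smul, hz2, one_smul]
  have hmc : Commute mz mw := Subtype.ext (Equiv.ext fun x => Subtype.ext (by
    simp [hmz, hmw, ← mul_smul, (hzc w hw).eq]))
  have hSE : Cfsg.IsStronglyEmbedded H := by
    refine ⟨hHtop, ?_, hodd2⟩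
    have h2 : orderOf mz = 2 := orderOf_eq_prime (by rw [pow_two, hmz2]) hmz1
    rw [even_iff_two_dvd, ← h2, ← Subgroup.orderOf_mk mz hzH]
    exact orderOf_dvd_natCard _
  have hO : Cfsg.oddCore M = ⊥ := by
    have hK : Cfsg.oddCore M ≤ H := by
      refine le_of_four CfsgLib.LocalB.odd_card_oddCore hmz2 hmw2 hmz1 hmw1 hmne hmc
        (by rw [normalizer_eq_top]; trivial) (by rw [normalizer_eq_top]; trivial) ?_
      intro v y hv hy hc
      have hc' : (v : Equiv.Perm S.L) ((y : Equiv.Perm S.L) pa) = (y : Equiv.Perm S.L) ((v : Equiv.Perm S.L) pa) :=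
        congrArg (fun m : M => (m : Equiv.Perm S.L) pa) hc.eq
      refine (hH y).2 (Subtype.ext ?_)
      rcases hv with rfl | rfl | rfl
      · refine S.semireg hz hzc hz1 ?_
        rw [(hH _).1 hzH] at hc'
        rw [← hmz, hc']
      · refine S.semireg hw hwc hw1 ?_
        rw [(hH _).1 hwH] at hc'
        rw [← hmw, hc']
      · refine S.semireg (mul_mem hz hw) hzwc hzw1 ?_
        rw [show ((mz * mw : M) : Equiv.Perm S.L) pa = pa from mul_mem hzH hwH] at hc'
        rw [mul_smul, ← hmw, ← hmz]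
        exact congrArg Subtype.val hc'
    rw [eq_bot_iff]
    intro y hy
    rw [Subgroup.mem_bot]
    refine Subtype.ext (Equiv.ext fun c => ?_)
    show (y : Equiv.Perm S.L) c = c
    rcases eq_or_ne c pa with rfl | hc
    · exact (hH y).1 (hK hy)
    obtain ⟨d, hda, hdb⟩ := S.two (x := (c : Ω)) (y := S.a) (fun e => hc (Subtype.ext e))
    let m : M := ⟨act ⟨d, S.normalizer_of_mem
      (show d • S.a ∈ S.L by rw [hda]; exact c.2) (show d • S.b ∈ S.L by rw [hdb]; exact S.a_mem)⟩, _, rfl⟩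
    have hm : (m : Equiv.Perm S.L) pa = c := Subtype.ext hda
    have hinst : (Cfsg.oddCore M).Normal := inferInstance
    have h2 := (hH _).1 (hK (hinst.conj_mem y hy m⁻¹))
    simp only [inv_inv, Subgroup.coe_mul, Subgroup.coe_inv, Equiv.Perm.mul_apply] at h2
    rw [hm] at h2
    rw [Equiv.Perm.inv_eq_iff_eq, hm] at h2
    exact h2
  have hHbot : Cfsg.oddCore H = ⊥ := by
    have h := CfsgLib.Bender.Core.oddCore_le H hSE
    rw [hO, le_bot_iff, Subgroup.map_eq_bot_iff_of_injective _ (subtype_injective _)] at h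
    exact h
  -- the image of the odd part
  have hRN : S.R ≤ N := fun r hr => by
    refine mem_normalizer_iff.2 fun h => ⟨fun hh => ?_, fun hh => ?_⟩
    · rwa [← (S.commute_R hh.1 hr).eq, mul_inv_cancel_right]
    · have hP : h ∈ S.P := by
        have := S.P_conj (S.U_fix _ (inv_mem (S.R_le hr))) hh.1
        simpa [mul_assoc] using this
      rwa [← (S.commute_R hP hr).eq, mul_inv_cancel_right] at hh
  let K₁ : Subgroup M := (S.R.subgroupOf N).map act.rangeRestrict
  have hK₁odd : Odd (Nat.card K₁) := by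
    refine S.odd_R.of_dvd_nat ((Subgroup.card_map_dvd _ _).trans ?_)
    rw [Nat.card_congr (Subgroup.subgroupOfEquivOfLe hRN).toEquiv]
  have hK₁H : K₁ ≤ H := by
    rintro _ ⟨r, hr, rfl⟩
    exact (hH _).2 (Subtype.ext (S.U_fix _ (S.R_le hr)))
  have hn : (K₁.subgroupOf H).Normal := by
    refine ⟨fun y hy g => ?_⟩
    obtain ⟨r, hr, he⟩ := mem_subgroupOf.1 hy
    obtain ⟨d, hd⟩ := (g : M).2
    have hda : (d : G) • S.a = S.a := by
      have := congrArg Subtype.val ((hH _).1 g.2)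
      rw [← hd] at this
      exact this
    refine mem_subgroupOf.2 ⟨d * r * d⁻¹, S.conj_R hda hr, Subtype.ext ?_⟩
    have he' : act r = ((y : M) : Equiv.Perm S.L) := congrArg Subtype.val he
    rw [map_mul, map_mul, map_inv]
    show act d * act r * (act d)⁻¹ = _
    rw [hd, he']
    rfl
  have hle : K₁.subgroupOf H ≤ ⊥ := by
    rw [← hHbot]
    refine CfsgLib.Bender.Core.le_oddCore hn ?_
    rwa [Nat.card_congr (Subgroup.subgroupOfEquivOfLe hK₁H).toEquiv]
  have hRb : ∀ r ∈ S.R, r • S.b = S.b := by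
    intro r hr
    have h1 : (⟨act.rangeRestrict ⟨r, hRN hr⟩, hK₁H ⟨_, hr, rfl⟩⟩ : H) ∈ K₁.subgroupOf H :=
      ⟨_, hr, rfl⟩
    have h2 := congrArg (fun m : H => (((m : M) : Equiv.Perm S.L) ⟨S.b, S.b_mem⟩ : Ω)) (Subgroup.mem_bot.1 (hle h1))
    simpa [hact] using h2
  rw [eq_bot_iff]
  intro r hr
  rw [Subgroup.mem_bot]
  refine FaithfulSMul.eq_of_smul_eq_smul fun x : Ω => ?_
  rw [one_smul]
  rcases eq_or_ne x S.a with rfl | hx
  · exact S.U_fix r (S.R_le hr)
  obtain ⟨u, hu, rfl⟩ := S.U_trans x hx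
  have := hRb _ (S.conj_R (inv_smul_eq_iff.2 (S.U_fix u hu).symm) hr)
  rw [inv_inv, mul_smul, mul_smul, inv_smul_eq_iff] at this
  exact this

theorem U_le : S.U ≤ S.P := fun u hu => by
  obtain ⟨p, q, hp, hq, hodd, rfl⟩ := S.exists_split hu
  have := S.mem_R_of_odd hq hodd
  rw [S.R_eq_bot, Subgroup.mem_bot] at this
  rwa [this, mul_one]

theorem P_trans {x : Ω} (hx : x ≠ S.a) : ∃ u ∈ S.P, u • S.b = x :=
  (S.U_trans x hx).imp fun _ h => ⟨S.U_le h.1, h.2⟩

theorem decompP {g : G} (hg : g • S.a = S.a) : ∃ u ∈ S.P, ∃ h ∈ S.H₀, g = u * h :=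
  (S.decomp g hg).imp fun _ h => ⟨S.U_le h.1, h.2⟩

theorem line_trans {c : Ω} (hc : c ∈ S.L) (hca : c ≠ S.a) :
    ∃ u ∈ S.P, u ∈ normalizer (S.T : Set G) ∧ u • S.b = c := by
  obtain ⟨u, hu, rfl⟩ := S.P_trans hca
  exact ⟨u, hu, S.normalizer_of_mem (by rw [S.P_fix u hu]; exact S.a_mem) hc, rfl⟩

theorem line_of_normalizer {u : G} (hu : u ∈ S.P) (hn : u ∈ normalizer (S.T : Set G)) :
    u • S.b ∈ S.L ∧ u • S.b ≠ S.a :=
  ⟨(S.normalizer_smul hn).2 S.b_mem, fun e => S.hne (smul_left_cancel u (e.trans (S.P_fix u hu).symm)).symm⟩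

/-- An element centralising `T` interchanging the two base points. -/
theorem exists_swap : ∃ g : G, g • S.a = S.b ∧ g • S.b = S.a ∧ ∀ τ ∈ S.T, Commute g τ := by
  obtain ⟨z, hz, hzc, hz2, hz1⟩ := S.exists_central
  have hc : z • S.b ∈ S.L := (S.normalizer_smul (S.normalizer_of_central hz hzc)).2 S.b_mem
  have hne : S.b ≠ z • S.b := fun e => S.hne (S.semireg hz hzc hz1 e.symm).symm
  obtain ⟨g, hga, hgb⟩ := S.two hne
  have hg : g⁻¹ ∈ normalizer (S.T : Set G) := inv_mem (S.normalizer_of_mem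
    (show g • S.a ∈ S.L by rw [hga]; exact S.b_mem) (show g • S.b ∈ S.L by rw [hgb]; exact hc))
  refine ⟨g⁻¹ * z * g, ?_, ?_, fun τ hτ => ?_⟩
  · rw [mul_smul, mul_smul, hga, inv_smul_eq_iff, hgb]
  · rw [mul_smul, mul_smul, hgb, ← mul_smul z, hz2, one_smul, inv_smul_eq_iff, hga]
  · have h1 : g * τ * g⁻¹ ∈ S.T := (mem_normalizer_iff.1 (inv_mem hg) τ).1 hτ |> (by simpa using ·)
    have h2 := (hzc _ h1.1).eq
    show g⁻¹ * z * g * τ = τ * (g⁻¹ * z * g)
    calc g⁻¹ * z * g * τ = g⁻¹ * (z * (g * τ * g⁻¹)) * g := by group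
      _ = g⁻¹ * (g * τ * g⁻¹ * z) * g := by rw [h2]
      _ = τ * (g⁻¹ * z * g) := by group

end Cfg

end CfsgLib.Recog.RankOneSuzuki.Sat
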